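import Groth.Agent.TriH.DerivedKInj
import Mathlib

/-!
# The derived adjunction of an exact left adjoint and its right adjoint
-/

set_option autoImplicit false
set_option linter.style.haveILetI false

open CategoryTheory CategoryTheory.Limits

namespace Groth.Agent.DerAdj

universe w w' v v' u u'

section General

variable {C D H H' : Type*} [Category* C] [Category* D] [Category* H] [Category* H']
  (L : C ⥤ D) (W : MorphismProperty C) [L.IsLocalization W] {F : C ⥤ H}

/-- Right derived functors computed by objects with bijective localization are absolute. -/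
theorem isRightDerivedFunctor_comp
    (hres : ∀ Y : C, ∃ (I : C) (s : Y ⟶ I), W s ∧
      ∀ X : C, Function.Bijective (L.map : (X ⟶ I) → _))
    (RF : D ⥤ H) (β : F ⟶ L ⋙ RF) [RF.IsRightDerivedFunctor β W] (G : H ⥤ H') :
    (RF ⋙ G).IsRightDerivedFunctor
      (Functor.whiskerRight β G ≫ (Functor.associator _ _ _).hom) W := by
  haveI := TriH.hasPointwiseRightDerivedFunctor_of_bijective hres F
  haveI := TriH.hasPointwiseRightDerivedFunctor_of_bijective hres (F ⋙ G)
  let P := (F ⋙ G).totalRightDerived L W
  let u := (F ⋙ G).totalRightDerivedUnit L W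
  rw [P.isRightDerivedFunctor_iff_isIso_rightDerivedDesc u W]
  haveI := Localization.essSurj L W
  set τ := P.rightDerivedDesc u W (RF ⋙ G) (Functor.whiskerRight β G ≫ (Functor.associator _ _ _).hom)
  have hI : ∀ I : C, (∀ X : C, Function.Bijective (L.map : (X ⟶ I) → _)) →
      IsIso (τ.app (L.obj I)) := fun I hI => by
    haveI : IsIso (β.app I) := TriH.isIso_unit_of_bijective (W := W) F RF β I hI
    haveI : IsIso (u.app I) := TriH.isIso_unit_of_bijective (W := W) (F ⋙ G) P u I hI
    have h := P.rightDerived_fac_app u W (RF ⋙ G)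
      (Functor.whiskerRight β G ≫ (Functor.associator _ _ _).hom) I
    haveI : IsIso ((Functor.whiskerRight β G ≫ (Functor.associator _ _ _).hom).app I) := by
      rw [NatTrans.comp_app]; exact inferInstanceAs (IsIso (G.map (β.app I) ≫ 𝟙 _))
    exact @IsIso.of_isIso_fac_left _ _ _ _ _ (u.app I) _ _ _ ‹_› h
  haveI : ∀ Y : D, IsIso (τ.app Y) := fun Y => by
    obtain ⟨I, s, hs, hbij⟩ := hres (L.objPreimage Y)
    haveI : IsIso (L.map s) := Localization.inverts L W s hs
    haveI := hI I hbij
    exact (NatTrans.isIso_app_iff_of_iso τ ((L.objObjPreimageIso Y).symm ≪≫ asIso (L.map s))).mpr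
      inferInstance
  exact NatIso.isIso_of_isIso_app τ

end General

section Complexes

variable {A : Type u} {B : Type u'} [Category.{v} A] [Category.{v'} B] [Abelian A] [Abelian B]
  {G : B ⥤ A} {F : A ⥤ B} [G.Additive] [F.Additive]

/-- The unit on complexes. -/
def complexUnit (adj : G ⊣ F) (K : HomologicalComplex B (ComplexShape.up ℤ)) :
    K ⟶ (F.mapHomologicalComplex _).obj ((G.mapHomologicalComplex _).obj K) where
  f i := adj.unit.app (K.X i)
  comm' i j _ := (adj.unit.naturality (K.d i j)).symm

/-- The counit on complexes. -/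
def complexCounit (adj : G ⊣ F) (K : HomologicalComplex A (ComplexShape.up ℤ)) :
    (G.mapHomologicalComplex _).obj ((F.mapHomologicalComplex _).obj K) ⟶ K where
  f i := adj.counit.app (K.X i)
  comm' i j _ := (adj.counit.naturality (K.d i j)).symm

/-- An adjunction of additive functors gives one on homotopy categories. -/
noncomputable def mapHomotopyCategoryAdj (adj : G ⊣ F) :
    G.mapHomotopyCategory (ComplexShape.up ℤ) ⊣ F.mapHomotopyCategory (ComplexShape.up ℤ) where
  unit :=
    { app := fun K => (HomotopyCategory.quotient B _).map (complexUnit adj K.as)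
      naturality := by
        rintro ⟨K⟩ ⟨L⟩ ⟨f : K ⟶ L⟩
        exact congrArg (HomotopyCategory.quotient B _).map (a₁ := f ≫ complexUnit adj L)
          (a₂ := complexUnit adj K ≫ (F.mapHomologicalComplex _).map ((G.mapHomologicalComplex _).map f))
          (HomologicalComplex.hom_ext _ _ fun i => adj.unit.naturality (f.f i)) }
  counit :=
    { app := fun K => (HomotopyCategory.quotient A _).map (complexCounit adj K.as)
      naturality := by
        rintro ⟨K⟩ ⟨L⟩ ⟨f : K ⟶ L⟩
        exact congrArg (HomotopyCategory.quotient A _).map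
          (a₁ := (G.mapHomologicalComplex _).map ((F.mapHomologicalComplex _).map f) ≫ complexCounit adj L)
          (a₂ := complexCounit adj K ≫ f)
          (HomologicalComplex.hom_ext _ _ fun i => adj.counit.naturality (f.f i)) }
  left_triangle_components := by
    rintro ⟨K⟩
    exact (congrArg (HomotopyCategory.quotient A _).map
      (a₁ := (G.mapHomologicalComplex _).map (complexUnit adj K) ≫ complexCounit adj _) (a₂ := 𝟙 _)
      (HomologicalComplex.hom_ext _ _ fun i => adj.left_triangle_components (K.X i))).trans
        ((HomotopyCategory.quotient A _).map_id _)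
  right_triangle_components := by
    rintro ⟨K⟩
    exact (congrArg (HomotopyCategory.quotient B _).map
      (a₁ := complexUnit adj _ ≫ (F.mapHomologicalComplex _).map (complexCounit adj K)) (a₂ := 𝟙 _)
      (HomologicalComplex.hom_ext _ _ fun i => adj.right_triangle_components (K.X i))).trans
        ((HomotopyCategory.quotient B _).map_id _)

theorem nonempty_derived_adjunction [HasDerivedCategory.{w} A] [HasDerivedCategory.{w'} B]
    (adj : G ⊣ F) [PreservesFiniteLimits G] [PreservesFiniteColimits G]
    (hKinj : ∀ K : CochainComplex A ℤ, ∃ (I : CochainComplex A ℤ) (f : K ⟶ I),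
      I.IsKInjective ∧ QuasiIso f)
    [(F.mapHomotopyCategory (ComplexShape.up ℤ) ⋙ DerivedCategory.Qh).HasRightDerivedFunctor
      (HomotopyCategory.quasiIso A (ComplexShape.up ℤ))] :
    Nonempty (G.mapDerivedCategory ⊣
      (F.mapHomotopyCategory (ComplexShape.up ℤ) ⋙ DerivedCategory.Qh).totalRightDerived
        DerivedCategory.Qh (HomotopyCategory.quasiIso A (ComplexShape.up ℤ))) := by
  let WA := HomotopyCategory.quasiIso A (ComplexShape.up ℤ)
  let WB := HomotopyCategory.quasiIso B (ComplexShape.up ℤ)
  let P := F.mapHomotopyCategory (ComplexShape.up ℤ) ⋙ DerivedCategory.Qh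
  let RF := P.totalRightDerived DerivedCategory.Qh WA
  let β := P.totalRightDerivedUnit DerivedCategory.Qh WA
  let α := G.mapDerivedCategoryFactorsh
  haveI : G.mapDerivedCategory.IsLeftDerivedFunctor α.hom WB :=
    Functor.isLeftDerivedFunctor_of_inverts WB _ α
  haveI : (G.mapDerivedCategory ⋙ RF).IsLeftDerivedFunctor
      ((Functor.associator _ _ _).inv ≫ Functor.whiskerRight α.hom RF) WB :=
    Functor.isLeftDerivedFunctor_of_inverts WB _
      ((Functor.associator _ _ _).symm ≪≫ Functor.isoWhiskerRight α RF)
  haveI : (RF ⋙ G.mapDerivedCategory).IsRightDerivedFunctor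
      (Functor.whiskerRight β G.mapDerivedCategory ≫ (Functor.associator _ _ _).hom) WA :=
    isRightDerivedFunctor_comp DerivedCategory.Qh WA (TriH.exists_kInjective_homotopy hKinj) RF β _
  exact ⟨(mapHomotopyCategoryAdj adj).derived WB WA α.hom β⟩

end Complexes

end Groth.Agent.DerAdj
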