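import Groth.Agent.PCohLib.Trunc
import Mathlib

/-!
# Dévissage of natural transformations on bounded below objects of a derived category
-/

set_option autoImplicit false
set_option linter.style.haveILetI false
set_option linter.unusedSectionVars false

open CategoryTheory CategoryTheory.Limits CategoryTheory.Pretriangulated

namespace Groth.Agent.DerAdj

universe w w' v v' u u'

variable {A : Type u} {B : Type u'} [Category.{v} A] [Category.{v'} B] [Abelian A] [Abelian B]
  [HasDerivedCategory.{w} A] [HasDerivedCategory.{w'} B]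

open DerivedCategory

/-- If the third object of a triangle is `≥ k`, then `Hⁱ` of the first map is an isomorphism for `i < k`. -/
theorem isIso_homology_mor₁ {T : Triangle (DerivedCategory A)} (hT : T ∈ distinguishedTriangles)
    (k : ℤ) [T.obj₃.IsGE k] (i : ℤ) (hi : i < k) :
    IsIso ((homologyFunctor A i).map T.mor₁) := by
  have : Mono ((homologyFunctor A i).map T.mor₁) :=
    (HomologySequence.mono_homologyMap_mor₁_iff _ hT (i - 1) i (by lia)).2
      ((T.obj₃.isZero_of_isGE k (i - 1) (by lia)).eq_of_src _ _)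
  have : Epi ((homologyFunctor A i).map T.mor₁) :=
    (HomologySequence.epi_homologyMap_mor₁_iff _ hT i).2
      ((T.obj₃.isZero_of_isGE k i hi).eq_of_tgt _ _)
  exact isIso_of_mono_of_epi _

/-- The truncation step above: homologies of the first object. -/
theorem isGE_obj₁ {T : Triangle (DerivedCategory A)} (hT : T ∈ distinguishedTriangles)
    (m n : ℤ) [T.obj₁.IsLE m] [T.obj₃.IsGE (m + 1)] [T.obj₂.IsGE n] : T.obj₁.IsGE n := by
  rw [isGE_iff]
  intro i hi
  by_cases hm : i ≤ m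
  · haveI := isIso_homology_mor₁ hT (m + 1) i (by lia)
    exact (T.obj₂.isZero_of_isGE n i hi).of_iso (asIso ((homologyFunctor A i).map T.mor₁))
  · exact T.obj₁.isZero_of_isLE m i (by lia)

theorem isZero_of_isLE_of_isGE (Y : DerivedCategory A) (a b : ℤ) [Y.IsLE b] [Y.IsGE a] (h : b < a) :
    IsZero Y := by
  rw [IsZero.iff_id_eq_zero]
  exact TStructure.t.zero_of_isLE_of_isGE _ b a h inferInstance inferInstance

section NatTrans

variable {Φ Ψ : DerivedCategory A ⥤ DerivedCategory B} [Φ.CommShift ℤ] [Ψ.CommShift ℤ]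
  [Φ.IsTriangulated] [Ψ.IsTriangulated] (τ : Φ ⟶ Ψ) [NatTrans.CommShift τ ℤ]

theorem isIso_app_of_triangle {T : Triangle (DerivedCategory A)} (hT : T ∈ distinguishedTriangles)
    (h₁ : IsIso (τ.app T.obj₁)) (h₃ : IsIso (τ.app T.obj₃)) : IsIso (τ.app T.obj₂) :=
  isIso₂_of_isIso₁₃
    (Triangle.homMk (Φ.mapTriangle.obj T) (Ψ.mapTriangle.obj T)
      (τ.app T.obj₁) (τ.app T.obj₂) (τ.app T.obj₃) (τ.naturality T.mor₁) (τ.naturality T.mor₂)
      (by
        change (Φ.map T.mor₃ ≫ (Φ.commShiftIso (1 : ℤ)).hom.app T.obj₁) ≫ (τ.app T.obj₁)⟦(1 : ℤ)⟧' =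
          τ.app T.obj₃ ≫ Ψ.map T.mor₃ ≫ (Ψ.commShiftIso (1 : ℤ)).hom.app T.obj₁
        rw [Category.assoc, NatTrans.shift_app_comm]
        exact τ.naturality_assoc T.mor₃ _))
    (Φ.map_distinguished T hT) (Ψ.map_distinguished T hT) h₁ h₃

theorem isIso_app_shift (X : DerivedCategory A) (a : ℤ) [IsIso (τ.app X)] :
    IsIso (τ.app (X⟦a⟧)) := by
  rw [NatTrans.app_shift]
  infer_instance

theorem isIso_app_of_iso {X Y : DerivedCategory A} (e : X ≅ Y) (h : IsIso (τ.app X)) : IsIso (τ.app Y) :=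
  (NatTrans.isIso_app_iff_of_iso τ e).1 h

theorem isIso_app_singleFunctor (F : A) (q : ℤ) (h : IsIso (τ.app ((singleFunctor A 0).obj F))) :
    IsIso (τ.app ((singleFunctor A q).obj F)) :=
  isIso_app_of_iso τ (((singleFunctors A).shiftIso (-q) q 0 (by lia)).app F) (isIso_app_shift τ _ _)

theorem isIso_app_of_isZero {X : DerivedCategory A} (hX : IsZero X) : IsIso (τ.app X) :=
  ⟨⟨0, (Φ.map_isZero hX).eq_of_src _ _, (Ψ.map_isZero hX).eq_of_src _ _⟩⟩

/-- Dévissage for bounded objects. -/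
theorem isIso_app_of_bounded (k : ℕ) : ∀ (Y : DerivedCategory A) (n : ℤ) [Y.IsGE n] [Y.IsLE (n + k - 1)],
    (∀ q, IsIso (τ.app ((singleFunctor A 0).obj ((homologyFunctor A q).obj Y)))) →
      IsIso (τ.app Y) := by
  induction k with
  | zero =>
    intro Y n _ _ _
    exact isIso_app_of_isZero τ (isZero_of_isLE_of_isGE Y n (n + (0 : ℕ) - 1) (by lia))
  | succ k ih =>
    intro Y n _ _ hY
    obtain ⟨T, hT, rfl, hle, hiso, ⟨e⟩⟩ := PCohLib.exists_top_triangle Y (n + (k + 1 : ℕ) - 1)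
    have : T.obj₁.IsLE (n + k - 1) := by
      have := hle
      exact TStructure.t.isLE_of_le _ (n + (k + 1 : ℕ) - 1 - 1) _ (by lia)
    have : T.obj₁.IsGE n := by
      rw [isGE_iff]
      intro i hi
      exact (T.obj₂.isZero_of_isGE n i hi).of_iso (hiso i (by lia)).some
    refine isIso_app_of_triangle τ hT (ih T.obj₁ n fun q => ?_)
      (isIso_app_of_iso τ e.symm (isIso_app_singleFunctor τ _ _ (hY _)))
    by_cases hq : q < n + (k + 1 : ℕ) - 1
    · exact isIso_app_of_iso τ ((singleFunctor A 0).mapIso (hiso q hq).some.symm) (hY q)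
    · exact isIso_app_of_isZero τ ((singleFunctor A 0).map_isZero
        (T.obj₁.isZero_of_isLE (n + k - 1) q (by lia)))

/-- Dévissage for bounded below objects. -/
theorem isIso_app_of_isGE (hΦ : ∀ (Y : DerivedCategory A) (n : ℤ), Y.IsGE n → (Φ.obj Y).IsGE n)
    (hΨ : ∀ (Y : DerivedCategory A) (n : ℤ), Y.IsGE n → (Ψ.obj Y).IsGE n)
    (Y : DerivedCategory A) (n : ℤ) [Y.IsGE n]
    (hY : ∀ q, IsIso (τ.app ((singleFunctor A 0).obj ((homologyFunctor A q).obj Y)))) :
    IsIso (τ.app Y) := by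
  rw [DerivedCategory.isIso_iff]
  intro i
  obtain ⟨k, m, hm, him⟩ : ∃ (k : ℕ) (m : ℤ), m = n + k - 1 ∧ i ≤ m :=
    ⟨(i - n + 1).toNat, _, rfl, by lia⟩
  obtain ⟨X₁, X₃, h₁, h₃, f, g, h, hT⟩ :=
    (TStructure.t (C := A)).exists_triangle Y m (m + 1) rfl
  haveI hX₁ : (Triangle.mk f g h).obj₁.IsLE m := ⟨h₁⟩
  haveI hX₃ : (Triangle.mk f g h).obj₃.IsGE (m + 1) := ⟨h₃⟩
  haveI : (Triangle.mk f g h).obj₂.IsGE n := ‹_›
  haveI := isGE_obj₁ hT m n
  haveI : X₁.IsLE (n + k - 1) := hm ▸ hX₁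
  haveI : X₁.IsGE n := ‹(Triangle.mk f g h).obj₁.IsGE n›
  haveI : IsIso (τ.app X₁) := by
    refine isIso_app_of_bounded τ k X₁ n fun q => ?_
    by_cases hq : q ≤ m
    · haveI := isIso_homology_mor₁ hT (m + 1) q (by lia)
      exact isIso_app_of_iso τ ((singleFunctor A 0).mapIso
        (asIso ((homologyFunctor A q).map (Triangle.mk f g h).mor₁)).symm) (hY q)
    · exact isIso_app_of_isZero τ ((singleFunctor A 0).map_isZero
        (X₁.isZero_of_isLE (n + k - 1) q (by lia)))
  have hΦT := Φ.map_distinguished _ hT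
  have hΨT := Ψ.map_distinguished _ hT
  haveI : (Φ.mapTriangle.obj (Triangle.mk f g h)).obj₃.IsGE (m + 1) := hΦ _ _ hX₃
  haveI : (Ψ.mapTriangle.obj (Triangle.mk f g h)).obj₃.IsGE (m + 1) := hΨ _ _ hX₃
  haveI : IsIso ((homologyFunctor B i).map (Φ.map f)) := isIso_homology_mor₁ hΦT (m + 1) i (by lia)
  haveI : IsIso ((homologyFunctor B i).map (Ψ.map f)) := isIso_homology_mor₁ hΨT (m + 1) i (by lia)
  have h' : (homologyFunctor B i).map (Φ.map f) ≫ (homologyFunctor B i).map (τ.app Y) =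
      (homologyFunctor B i).map (τ.app X₁) ≫ (homologyFunctor B i).map (Ψ.map f) := by
    rw [← Functor.map_comp, ← Functor.map_comp, τ.naturality]
  haveI : IsIso ((homologyFunctor B i).map (Φ.map f) ≫ (homologyFunctor B i).map (τ.app Y)) := by
    rw [h']; infer_instance
  exact IsIso.of_isIso_comp_left ((homologyFunctor B i).map (Φ.map f)) _

end NatTrans

section Exact

variable (G : B ⥤ A) [G.Additive] [PreservesFiniteLimits G] [PreservesFiniteColimits G]

theorem homology_mapDerivedCategory (Y : DerivedCategory B) (i : ℤ) :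
    Nonempty ((homologyFunctor A i).obj (G.mapDerivedCategory.obj Y) ≅
      G.obj ((homologyFunctor B i).obj Y)) := by
  let K := Q.objPreimage Y
  refine ⟨(homologyFunctor A i).mapIso (G.mapDerivedCategory.mapIso (Q.objObjPreimageIso Y).symm ≪≫
    G.mapDerivedCategoryFactors.app K) ≪≫ (homologyFunctorFactors A i).app _ ≪≫ ?_ ≪≫
    G.mapIso ((homologyFunctorFactors B i).symm.app K ≪≫
      (homologyFunctor B i).mapIso (Q.objObjPreimageIso Y))⟩
  exact (K.sc i).mapHomologyIso G

theorem isGE_mapDerivedCategory (Y : DerivedCategory B) (n : ℤ) [Y.IsGE n] :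
    (G.mapDerivedCategory.obj Y).IsGE n := by
  rw [isGE_iff]
  exact fun i hi => (G.map_isZero (Y.isZero_of_isGE n i hi)).of_iso (homology_mapDerivedCategory G Y i).some

theorem isLE_mapDerivedCategory (Y : DerivedCategory B) (n : ℤ) [Y.IsLE n] :
    (G.mapDerivedCategory.obj Y).IsLE n := by
  rw [isLE_iff]
  exact fun i hi => (G.map_isZero (Y.isZero_of_isLE n i hi)).of_iso (homology_mapDerivedCategory G Y i).some

variable {R : DerivedCategory A ⥤ DerivedCategory B} (adj : G.mapDerivedCategory ⊣ R)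

include adj in
theorem isGE_rightAdjoint (X : DerivedCategory A) (n : ℤ) [X.IsGE n] : (R.obj X).IsGE n := by
  rw [isGE_iff]
  intro i hi
  obtain ⟨X₁, X₃, h₁, h₃, f, g, h, hT⟩ :=
    (TStructure.t (C := B)).exists_triangle (R.obj X) (n - 1) n (by lia)
  haveI hX₁ : (Triangle.mk f g h).obj₁.IsLE (n - 1) := ⟨h₁⟩
  haveI hX₃ : (Triangle.mk f g h).obj₃.IsGE n := ⟨h₃⟩
  haveI : X₁.IsLE (n - 1) := hX₁
  have hf : f = 0 := by
    apply (adj.homEquiv X₁ X).symm.injective
    haveI := isLE_mapDerivedCategory G X₁ (n - 1)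
    rw [TStructure.t.zero_of_isLE_of_isGE ((adj.homEquiv X₁ X).symm f) (n - 1) n (by lia) inferInstance inferInstance,
      TStructure.t.zero_of_isLE_of_isGE ((adj.homEquiv X₁ X).symm 0) (n - 1) n (by lia) inferInstance inferInstance]
  haveI : IsIso ((homologyFunctor B i).map f) := isIso_homology_mor₁ hT n i hi
  have h0 : (homologyFunctor B i).map f = 0 := by rw [hf, Functor.map_zero]
  exact (IsZero.iff_id_eq_zero _).2 (by
    rw [← IsIso.inv_hom_id ((homologyFunctor B i).map f)]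
    exact (congrArg (inv ((homologyFunctor B i).map f) ≫ ·) h0).trans comp_zero)

include adj in
theorem isIso_unit_of_isGE (Y : DerivedCategory B) (n : ℤ) [Y.IsGE n]
    (h3 : ∀ q : ℤ, IsIso (adj.unit.app ((singleFunctor B 0).obj ((homologyFunctor B q).obj Y)))) :
    IsIso (adj.unit.app Y) := by
  letI := adj.rightAdjointCommShift ℤ
  haveI := adj.commShift_of_leftAdjoint ℤ
  haveI := adj.isTriangulated_rightAdjoint
  refine isIso_app_of_isGE adj.unit (fun Y' m h => h) (fun Y' m h => ?_) Y n h3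
  haveI := h
  haveI := isGE_mapDerivedCategory G Y' m
  exact isGE_rightAdjoint G adj (G.mapDerivedCategory.obj Y') m

include adj in
theorem isIso_counit_of_isGE (X : DerivedCategory A) (n : ℤ) [X.IsGE n]
    (h : ∀ q : ℤ, IsIso (adj.counit.app ((singleFunctor A 0).obj ((homologyFunctor A q).obj X)))) :
    IsIso (adj.counit.app X) := by
  letI := adj.rightAdjointCommShift ℤ
  haveI := adj.commShift_of_leftAdjoint ℤ
  haveI := adj.isTriangulated_rightAdjoint
  refine isIso_app_of_isGE adj.counit (fun X' m h => ?_) (fun X' m h => h) X n h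
  haveI := h
  haveI := isGE_rightAdjoint G adj X' m
  exact isGE_mapDerivedCategory G (R.obj X') m

include adj in
theorem isIso_counit_of_iso {X : DerivedCategory A} {Y : DerivedCategory B}
    (e : G.mapDerivedCategory.obj Y ≅ X) [IsIso (adj.unit.app Y)] : IsIso (adj.counit.app X) := by
  refine (NatTrans.isIso_app_iff_of_iso adj.counit e).1 ?_
  have h := adj.left_triangle_components Y
  exact IsIso.of_isIso_fac_left h

section Coh

variable [R.CommShift ℤ] [R.IsTriangulated] {Q₀ : ObjectProperty B} [Q₀.IsClosedUnderIsomorphisms]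
  [Q₀.ContainsZero] (Q : ObjectProperty A) [Q.IsClosedUnderIsomorphisms] [Q.ContainsZero]

theorem homology_map_bounded
    (hR : ∀ F : A, Q F → ∃ F' : B, Q₀ F' ∧ Nonempty (R.obj ((singleFunctor A 0).obj F) ≅ (singleFunctor B 0).obj F'))
    (k : ℕ) : ∀ (X : DerivedCategory A) (n : ℤ) [X.IsGE n] [X.IsLE (n + k - 1)],
      (∀ q, Q ((homologyFunctor A q).obj X)) →
      (R.obj X).IsLE (n + k - 1) ∧ ∀ q, Q₀ ((homologyFunctor B q).obj (R.obj X)) := by
  induction k with
  | zero =>
    intro X n _ _ _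
    have hz := R.map_isZero (isZero_of_isLE_of_isGE X n (n + (0 : ℕ) - 1) (by lia))
    exact ⟨(isLE_iff _ _).2 fun i _ => (homologyFunctor B i).map_isZero hz,
      fun q => Q₀.prop_of_isZero ((homologyFunctor B q).map_isZero hz)⟩
  | succ k ih =>
    intro X n _ _ hX
    obtain ⟨T, hT, rfl, hle, hiso, ⟨e⟩⟩ := PCohLib.exists_top_triangle X (n + (k + 1 : ℕ) - 1)
    generalize hb : n + ((k + 1 : ℕ) : ℤ) - 1 = b at *
    have : T.obj₁.IsLE (n + k - 1) := TStructure.t.isLE_of_le _ (b - 1) _ (by lia)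
    have : T.obj₁.IsGE n := by
      rw [isGE_iff]
      intro i hi
      exact (T.obj₂.isZero_of_isGE n i hi).of_iso (hiso i (by lia)).some
    obtain ⟨hle₁, h₁⟩ := ih T.obj₁ n fun q => by
      by_cases hq : q < b
      · exact Q.prop_of_iso (hiso q hq).some.symm (hX q)
      · exact Q.prop_of_isZero (T.obj₁.isZero_of_isLE (n + k - 1) q (by lia))
    obtain ⟨F', hF', ⟨e'⟩⟩ := hR _ (hX b)
    let e₃ : R.obj T.obj₃ ≅ (singleFunctor B b).obj F' :=
      R.mapIso (e ≪≫ (((singleFunctors A).shiftIso (-b) b 0 (by lia)).app _).symm) ≪≫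
        (R.commShiftIso (-b)).app _ ≪≫ (shiftFunctor (DerivedCategory B) (-b)).mapIso e' ≪≫
        ((singleFunctors B).shiftIso (-b) b 0 (by lia)).app F'
    have hRT := R.map_distinguished T hT
    haveI : (R.obj T.obj₁).IsLE (n + k - 1) := hle₁
    haveI : (R.mapTriangle.obj T).obj₃.IsGE b := TStructure.t.isGE_of_iso e₃.symm b
    haveI : (R.obj T.obj₃).IsLE b := TStructure.t.isLE_of_iso e₃.symm b
    have hle₂ : (R.obj T.obj₂).IsLE b := by
      rw [isLE_iff]
      intro i hi
      exact (HomologySequence.exact₂ _ hRT i).isZero_of_both_zeros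
        (((R.obj T.obj₁).isZero_of_isLE (n + k - 1) i (by lia)).eq_of_src _ _)
        (((R.obj T.obj₃).isZero_of_isLE b i hi).eq_of_tgt _ _)
    refine ⟨hle₂, fun q => ?_⟩
    rcases lt_trichotomy q b with hq | hq | hq
    · have hiq := isIso_homology_mor₁ hRT b q hq
      exact Q₀.prop_of_iso (@asIso _ _ _ _ _ hiq) (h₁ q)
    · subst hq
      have : Mono ((homologyFunctor B q).map (R.mapTriangle.obj T).mor₂) :=
        (HomologySequence.mono_homologyMap_mor₂_iff _ hRT q).2
          (((R.obj T.obj₁).isZero_of_isLE (n + k - 1) q (by lia)).eq_of_src _ _)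
      have : Epi ((homologyFunctor B q).map (R.mapTriangle.obj T).mor₂) :=
        (HomologySequence.epi_homologyMap_mor₂_iff _ hRT q (q + 1) rfl).2
          (((R.obj T.obj₁).isZero_of_isLE (n + k - 1) (q + 1) (by lia)).eq_of_tgt _ _)
      haveI := isIso_of_mono_of_epi ((homologyFunctor B q).map (R.mapTriangle.obj T).mor₂)
      exact Q₀.prop_of_iso ((PCohLib.singleHomologyIso q F').symm ≪≫ (homologyFunctor B q).mapIso e₃.symm ≪≫
        (asIso ((homologyFunctor B q).map (R.mapTriangle.obj T).mor₂)).symm) hF'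
    · exact Q₀.prop_of_isZero ((R.obj T.obj₂).isZero_of_isLE b q hq)

include adj in
theorem homology_rightAdjoint
    (hR : ∀ F : A, Q F → ∃ F' : B, Q₀ F' ∧ Nonempty (R.obj ((singleFunctor A 0).obj F) ≅ (singleFunctor B 0).obj F'))
    (X : DerivedCategory A) (n : ℤ) [X.IsGE n] (hX : ∀ q, Q ((homologyFunctor A q).obj X)) (q : ℤ) :
    Q₀ ((homologyFunctor B q).obj (R.obj X)) := by
  obtain ⟨k, m, hm, him⟩ : ∃ (k : ℕ) (m : ℤ), m = n + k - 1 ∧ q ≤ m :=
    ⟨(q - n + 1).toNat, _, rfl, by lia⟩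
  obtain ⟨X₁, X₃, h₁, h₃, f, g, h, hT⟩ :=
    (TStructure.t (C := A)).exists_triangle X m (m + 1) rfl
  haveI hX₁ : (Triangle.mk f g h).obj₁.IsLE m := ⟨h₁⟩
  haveI hX₃ : (Triangle.mk f g h).obj₃.IsGE (m + 1) := ⟨h₃⟩
  haveI : (Triangle.mk f g h).obj₂.IsGE n := ‹_›
  haveI := isGE_obj₁ hT m n
  haveI : X₁.IsLE (n + k - 1) := hm ▸ hX₁
  haveI : X₁.IsGE n := ‹(Triangle.mk f g h).obj₁.IsGE n›
  have hX₁' := (homology_map_bounded (R := R) Q hR k X₁ n fun j => by
    by_cases hj : j ≤ m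
    · haveI := isIso_homology_mor₁ hT (m + 1) j (by lia)
      exact Q.prop_of_iso (asIso ((homologyFunctor A j).map (Triangle.mk f g h).mor₁)).symm (hX j)
    · exact Q.prop_of_isZero (X₁.isZero_of_isLE (n + k - 1) j (by lia))).2 q
  have hRT := R.map_distinguished _ hT
  haveI : (R.mapTriangle.obj (Triangle.mk f g h)).obj₃.IsGE (m + 1) :=
    isGE_rightAdjoint G adj _ (m + 1)
  have hiq := isIso_homology_mor₁ hRT (m + 1) q (by lia)
  exact Q₀.prop_of_iso (@asIso _ _ _ _ _ hiq) hX₁'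

end Coh

end Exact

end Groth.Agent.DerAdj
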