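import Groth.Agent.DerAdj.UnboundedEquiv
import Mathlib.Algebra.Homology.DerivedCategory.FullyFaithful

/-!
# The counit of a derived adjunction on an object in degree zero
-/

set_option autoImplicit false
set_option linter.style.haveILetI false

open CategoryTheory CategoryTheory.Limits CategoryTheory.Pretriangulated DerivedCategory

namespace Groth.Agent.DerAdj.Unbounded

universe w w' v v' u u'

variable {A₀ : Type u} [Category.{v} A₀] [Abelian A₀] [HasDerivedCategory.{w} A₀] {B₀ : Type u'} [Category.{v'} B₀]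
  [Abelian B₀] [HasDerivedCategory.{w'} B₀] (G : B₀ ⥤ A₀) [G.Additive] [PreservesFiniteLimits G]
  [PreservesFiniteColimits G]

/-- If the right derived object is concentrated in degree zero and the underlying counit is invertible, so is the
derived counit. -/
theorem isIso_counit_single {R : DerivedCategory A₀ ⥤ DerivedCategory B₀} (adj : G.mapDerivedCategory ⊣ R)
    {F : A₀ ⥤ B₀} (adj₀ : G ⊣ F) (X : A₀) [IsIso (adj₀.counit.app X)]
    [(R.obj ((singleFunctor A₀ 0).obj X)).IsGE 0] [(R.obj ((singleFunctor A₀ 0).obj X)).IsLE 0] :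
    IsIso (adj.counit.app ((singleFunctor A₀ 0).obj X)) := by
  obtain ⟨M, ⟨e⟩⟩ := (R.obj ((singleFunctor A₀ 0).obj X)).exists_iso_singleFunctor_obj_of_isGE_of_isLE 0
  let ν := G.mapDerivedCategorySingleFunctor 0
  let c' := G.mapDerivedCategory.map e.inv ≫ adj.counit.app ((singleFunctor A₀ 0).obj X)
  obtain ⟨ψ, hψ⟩ := (singleFunctor A₀ 0).map_surjective (ν.inv.app M ≫ c')
  have key : ∀ M' : B₀, Function.Bijective fun φ : M' ⟶ M => G.map φ ≫ ψ := by
    intro M'
    have h1 : Function.Bijective fun φ : M' ⟶ M =>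
        (adj.homEquiv ((singleFunctor B₀ 0).obj M') ((singleFunctor A₀ 0).obj X)).symm
          ((singleFunctor B₀ 0).map φ ≫ e.inv) := by
      refine (Equiv.bijective _).comp ⟨fun φ φ' h => (singleFunctor B₀ 0).map_injective ((cancel_mono e.inv).1 h),
        fun y => ?_⟩
      obtain ⟨φ, hφ⟩ := (singleFunctor B₀ 0).map_surjective (y ≫ e.hom)
      exact ⟨φ, by simp [hφ]⟩
    have h2 : ∀ φ : M' ⟶ M, (singleFunctor A₀ 0).map (G.map φ ≫ ψ) = ν.inv.app M' ≫
        (adj.homEquiv ((singleFunctor B₀ 0).obj M') ((singleFunctor A₀ 0).obj X)).symm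
          ((singleFunctor B₀ 0).map φ ≫ e.inv) := by
      intro φ
      have hn := ν.inv.naturality φ
      simp only [Functor.comp_map] at hn
      rw [Functor.map_comp, hψ, Adjunction.homEquiv_counit, Functor.map_comp, Category.assoc, ← reassoc_of% hn]
    refine ⟨fun φ φ' h => h1.1 ((cancel_epi (ν.inv.app M')).1 ?_), fun y => ?_⟩
    · rw [← h2, ← h2]; exact congrArg _ h
    · obtain ⟨φ, hφ⟩ := h1.2 (ν.hom.app M' ≫ (singleFunctor A₀ 0).map y)
      refine ⟨φ, (singleFunctor A₀ 0).map_injective ?_⟩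
      dsimp only at hφ
      rw [h2, hφ, Iso.inv_hom_id_app_assoc]
  let ψ' := adj₀.homEquiv M X ψ
  have hp : ∀ M' : B₀, Function.Bijective fun φ : M' ⟶ M => φ ≫ ψ' := by
    intro M'
    convert (adj₀.homEquiv M' X).bijective.comp (key M') using 1
    funext φ
    simp [ψ', Adjunction.homEquiv_naturality_left]
  obtain ⟨φ₀, hφ₀⟩ := (hp (F.obj X)).2 (𝟙 _)
  dsimp only at hφ₀
  haveI : IsIso ψ' := ⟨φ₀, (hp M).1 (by simp [hφ₀]), hφ₀⟩
  have hψ' : G.map ψ' ≫ adj₀.counit.app X = ψ :=
    (Adjunction.homEquiv_counit adj₀ _ _ _).symm.trans ((adj₀.homEquiv M X).symm_apply_apply ψ)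
  haveI : IsIso ψ := by rw [← hψ']; infer_instance
  haveI : IsIso (ν.inv.app M ≫ c') := by rw [← hψ]; infer_instance
  haveI : IsIso c' := IsIso.of_isIso_comp_left (ν.inv.app M) c'
  exact IsIso.of_isIso_comp_left (G.mapDerivedCategory.map e.inv) _

omit [HasDerivedCategory.{w} A₀] in
/-- Fully faithful exact functors on weak Serre classes detect isomorphisms. -/
theorem isIso_of_map [HasDerivedCategory.{w} A₀] (A' : ObjectProperty B₀) [WSerre.IsWeakSerre A']
    (h2b : ∀ F' G' : B₀, A' F' → A' G' → Function.Bijective (fun φ : F' ⟶ G' => G.map φ))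
    {Y Y' : DerivedCategory B₀} (φ : Y ⟶ Y') (hY : WSerre.cohIn A' Y) (hY' : WSerre.cohIn A' Y')
    [IsIso (G.mapDerivedCategory.map φ)] : IsIso φ := by
  obtain ⟨Z, p, δ, hT⟩ := distinguished_cocone_triangle φ
  have hz : ∀ q, IsZero ((homologyFunctor B₀ q).obj Z) := fun q =>
    isZero_of_map G A' h2b (cone_mem A' hT hY hY' q)
      ((isZero_cone (G.mapDerivedCategory.map_distinguished _ hT) q
        (inferInstanceAs (IsIso ((homologyFunctor A₀ q).map (G.mapDerivedCategory.map φ))))
        (inferInstanceAs (IsIso ((homologyFunctor A₀ (q + 1)).map (G.mapDerivedCategory.map φ))))).of_iso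
          (homology_mapDerivedCategory G Z q).some.symm)
  rw [DerivedCategory.isIso_iff]
  exact fun j => isIso_of_isZero_cone hT (j - 1) j (by omega) (hz _) (hz j)

end Groth.Agent.DerAdj.Unbounded
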