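import Mathlib
import Groth.Agent.DerAdj.Basic
import Groth.Prelude.Def_CohCx
import Groth.Prelude.Def_DCoh2

/-!
# The total right derived functor maps distinguished triangles and derived limits
-/

set_option linter.style.haveILetI false

universe w w' v v' u u'

open CategoryTheory CategoryTheory.Limits Pretriangulated

namespace Groth.Agent.DerAdj

variable {A : Type u} [Category.{v} A] [Abelian A] [HasDerivedCategory.{w} A]
  {B : Type u'} [Category.{v'} B] [Abelian B] [HasDerivedCategory.{w'} B]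
  (F : A ⥤ B) [F.Additive]

/-- The total right derived functor of `F`. -/
noncomputable abbrev RFun [(F.mapHomotopyCategory (ComplexShape.up ℤ) ⋙ DerivedCategory.Qh).HasRightDerivedFunctor
    (HomotopyCategory.quasiIso A (ComplexShape.up ℤ))] : DerivedCategory A ⥤ DerivedCategory B :=
  (F.mapHomotopyCategory (ComplexShape.up ℤ) ⋙ DerivedCategory.Qh).totalRightDerived
    DerivedCategory.Qh (HomotopyCategory.quasiIso A (ComplexShape.up ℤ))

variable [(F.mapHomotopyCategory (ComplexShape.up ℤ) ⋙ DerivedCategory.Qh).HasRightDerivedFunctor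
    (HomotopyCategory.quasiIso A (ComplexShape.up ℤ))]

/-- `RF` of a distinguished triangle is distinguished, for a suitable connecting map. -/
theorem exists_distinguished_map
    (hKinj : ∀ K : CochainComplex A ℤ, ∃ (I : CochainComplex A ℤ) (f : K ⟶ I),
      I.IsKInjective ∧ QuasiIso f)
    (T : Triangle (DerivedCategory A)) (hT : T ∈ distTriang _) :
    ∃ c : (RFun F).obj T.obj₃ ⟶ ((RFun F).obj T.obj₁)⟦(1 : ℤ)⟧,
      Triangle.mk ((RFun F).map T.mor₁) ((RFun F).map T.mor₂) c ∈ distTriang _ := by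
  let WA := HomotopyCategory.quasiIso A (ComplexShape.up ℤ)
  let P := F.mapHomotopyCategory (ComplexShape.up ℤ) ⋙ DerivedCategory.Qh
  let β := P.totalRightDerivedUnit DerivedCategory.Qh WA
  haveI : P.HasPointwiseRightDerivedFunctor WA :=
    TriH.hasPointwiseRightDerivedFunctor_of_bijective (L := DerivedCategory.Qh)
      (TriH.exists_kInjective_homotopy hKinj) P
  let O := (HomotopyCategory.subcategoryAcyclic A).rightOrthogonal
  have hrep : ∀ Y : DerivedCategory A, ∃ (I : HomotopyCategory A (ComplexShape.up ℤ)),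
      O I ∧ Nonempty (DerivedCategory.Qh.obj I ≅ Y) := by
    intro Y
    obtain ⟨K, ⟨e⟩⟩ : ∃ K, Nonempty (DerivedCategory.Q.obj K ≅ Y) :=
      ⟨_, ⟨DerivedCategory.Q.objObjPreimageIso Y⟩⟩
    obtain ⟨I, f, hI, hf⟩ := hKinj K
    haveI := hf
    exact ⟨(HomotopyCategory.quotient _ _).obj I, CochainComplex.IsKInjective.rightOrthogonal I,
      ⟨(DerivedCategory.quotientCompQhIso A).app I ≪≫ (asIso (DerivedCategory.Q.map f)).symm ≪≫ e⟩⟩
  obtain ⟨I2, hI2, ⟨e2⟩⟩ := hrep T.obj₂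
  obtain ⟨I3, hI3, ⟨e3⟩⟩ := hrep T.obj₃
  have hbij : ∀ {I : HomotopyCategory A (ComplexShape.up ℤ)}, O I →
      ∀ X, Function.Bijective (DerivedCategory.Qh.map : (X ⟶ I) → _) := fun {I} hI X =>
    ObjectProperty.rightOrthogonal.map_bijective_of_isTriangulated hI _ _
  obtain ⟨σ, hσ⟩ := (hbij hI3 I2).2 (e2.hom ≫ T.mor₂ ≫ e3.inv)
  obtain ⟨Z, g, h, hT'⟩ := distinguished_cocone_triangle₁ σ
  obtain ⟨Z', hZ', ⟨eZ⟩⟩ := O.ext_of_isTriangulatedClosed₁' _ hT' hI2 hI3
  have hZ : O Z := O.prop_of_iso eZ.symm hZ'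
  have hd := DerivedCategory.Qh.map_distinguished _ hT'
  have hcomm : DerivedCategory.Qh.map σ ≫ e3.hom = e2.hom ≫ T.mor₂ := by
    rw [hσ]; simp
  obtain ⟨a', ha1', ha3⟩ := complete_distinguished_triangle_morphism₁ _ _ hd hT e2.hom e3.hom hcomm
  let a : DerivedCategory.Qh.obj Z ⟶ T.obj₁ := a'
  have ha1 : DerivedCategory.Qh.map g ≫ e2.hom = a ≫ T.mor₁ := ha1'
  let φ : DerivedCategory.Qh.mapTriangle.obj (Triangle.mk g σ h) ⟶ T :=
    { hom₁ := a', hom₂ := e2.hom, hom₃ := e3.hom, comm₁ := ha1', comm₂ := hcomm, comm₃ := ha3 }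
  haveI : IsIso a := isIso₁_of_isIso₂₃ φ hd hT
    (inferInstanceAs (IsIso e2.hom)) (inferInstanceAs (IsIso e3.hom))
  have hm : IsIso a := ‹_›
  have hβ : ∀ {I : HomotopyCategory A (ComplexShape.up ℤ)}, O I → IsIso (β.app I) := fun {I} hI =>
    TriH.isIso_unit_of_bijective (W := WA) P (RFun F) β I (hbij hI)
  haveI := hβ hZ
  haveI := hβ hI2
  haveI := hβ hI3
  let θ1 : P.obj Z ⟶ (RFun F).obj T.obj₁ := β.app Z ≫ (RFun F).map a
  let θ2 : P.obj I2 ⟶ (RFun F).obj T.obj₂ := β.app I2 ≫ (RFun F).map e2.hom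
  let θ3 : P.obj I3 ⟶ (RFun F).obj T.obj₃ := β.app I3 ≫ (RFun F).map e3.hom
  have n1 : P.map g ≫ θ2 = θ1 ≫ (RFun F).map T.mor₁ := by
    have := β.naturality g
    simp only [Functor.comp_map] at this
    simp only [θ1, θ2, Category.assoc]
    rw [← Category.assoc, show P.map g ≫ β.app I2 = _ from this, Category.assoc, ← Functor.map_comp,
      ← Functor.map_comp]
    congr 2
  have n2 : P.map σ ≫ θ3 = θ2 ≫ (RFun F).map T.mor₂ := by
    have := β.naturality σ
    simp only [Functor.comp_map] at this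
    simp only [θ2, θ3, Category.assoc]
    rw [← Category.assoc, show P.map σ ≫ β.app I3 = _ from this, Category.assoc, ← Functor.map_comp,
      ← Functor.map_comp, hcomm]
  let T'' := DerivedCategory.Qh.mapTriangle.obj
    ((F.mapHomotopyCategory (ComplexShape.up ℤ)).mapTriangle.obj (Triangle.mk g σ h))
  have hT'' : T'' ∈ distTriang _ :=
    DerivedCategory.Qh.map_distinguished _ ((F.mapHomotopyCategory (ComplexShape.up ℤ)).map_distinguished _ hT')
  haveI : IsIso θ3 := inferInstanceAs (IsIso (β.app I3 ≫ (RFun F).map e3.hom))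
  haveI : IsIso θ1 := inferInstanceAs (IsIso (β.app Z ≫ (RFun F).map a))
  haveI : IsIso θ2 := inferInstanceAs (IsIso (β.app I2 ≫ (RFun F).map e2.hom))
  refine ⟨inv θ3 ≫ T''.mor₃ ≫ θ1⟦(1 : ℤ)⟧', isomorphic_distinguished _ hT'' _ ?_⟩
  let i1 := asIso θ1
  let i2 := asIso θ2
  let i3 := asIso θ3
  refine (Triangle.isoMk _ _ i1 i2 i3 n1 n2 ?_).symm
  exact (IsIso.hom_inv_id_assoc θ3 _).symm

/-- `RF` maps derived limits to derived limits when it preserves the product. -/
theorem isRlimVia_map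
    (hKinj : ∀ K : CochainComplex A ℤ, ∃ (I : CochainComplex A ℤ) (f : K ⟶ I),
      I.IsKInjective ∧ QuasiIso f)
    [(RFun F).Additive] (E : ℕ → DerivedCategory A) (t : ∀ n, E (n + 1) ⟶ E n) [HasProduct E]
    [PreservesLimit (Discrete.functor E) (RFun F)] [HasProduct fun n => (RFun F).obj (E n)]
    (L : DerivedCategory A) (a : ∀ n, L ⟶ E n) (hL : CohCx.IsRlimVia E t L a) :
    CohCx.IsRlimVia (fun n => (RFun F).obj (E n)) (fun n => (RFun F).map (t n))
      ((RFun F).obj L) (fun n => (RFun F).map (a n)) := by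
  obtain ⟨c, hc⟩ := hL
  obtain ⟨c', hc'⟩ := exists_distinguished_map F hKinj _ hc
  let ψ := piComparison (RFun F) E
  have hψ : ∀ n, ψ ≫ Pi.π _ n = (RFun F).map (Pi.π E n) := fun n => piComparison_comp_π _ _ n
  haveI : IsIso ψ := inferInstanceAs (IsIso (piComparison (RFun F) E))
  refine ⟨inv ψ ≫ c', isomorphic_distinguished _ hc' _ ?_⟩
  refine Triangle.isoMk _ _ (Iso.refl _) (asIso ψ).symm (asIso ψ).symm ?_ ?_ ?_
  · show Pi.lift _ ≫ inv ψ = 𝟙 _ ≫ (RFun F).map (Pi.lift a)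
    rw [Category.id_comp, IsIso.comp_inv_eq]
    refine Pi.hom_ext _ _ fun n => ?_
    rw [Pi.lift_π, Category.assoc, hψ, ← Functor.map_comp, Pi.lift_π]
  · show Pi.lift _ ≫ inv ψ = inv ψ ≫ (RFun F).map _
    rw [IsIso.comp_inv_eq, Category.assoc, IsIso.eq_inv_comp]
    refine Pi.hom_ext _ _ fun n => ?_
    simp only [Category.assoc, Pi.lift_π, Preadditive.comp_sub, hψ]
    refine Eq.trans ?_ ((RFun F).map_comp _ _)
    show _ = (RFun F).map ((Pi.lift fun n => Pi.π E n - Pi.π E (n + 1) ≫ t n) ≫ Pi.π E n)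
    rw [Pi.lift_π, Functor.map_sub, Functor.map_comp, reassoc_of% hψ]
  · show (inv ψ ≫ c') ≫ (shiftFunctor _ (1 : ℤ)).map (𝟙 _) = inv ψ ≫ c'
    rw [CategoryTheory.Functor.map_id, Category.comp_id]

/-- The same for derived limits without specified maps. -/
theorem isRlim_map
    (hKinj : ∀ K : CochainComplex A ℤ, ∃ (I : CochainComplex A ℤ) (f : K ⟶ I),
      I.IsKInjective ∧ QuasiIso f)
    [(RFun F).Additive] (E : ℕ → DerivedCategory A) (t : ∀ n, E (n + 1) ⟶ E n) [HasProduct E]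
    [PreservesLimit (Discrete.functor E) (RFun F)] [HasProduct fun n => (RFun F).obj (E n)]
    (L : DerivedCategory A) (hL : DCoh.IsRlim E t L) :
    DCoh.IsRlim (fun n => (RFun F).obj (E n)) (fun n => (RFun F).map (t n)) ((RFun F).obj L) := by
  obtain ⟨a, c, hc⟩ := hL
  have ha : a = Pi.lift (fun n => a ≫ Pi.π E n) := Pi.hom_ext _ _ fun n => by rw [Pi.lift_π]
  have h : CohCx.IsRlimVia E t L (fun n => a ≫ Pi.π E n) := ⟨c, by rw [← ha]; exact hc⟩
  obtain ⟨c', hc'⟩ := isRlimVia_map F hKinj E t L _ h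
  exact ⟨_, c', hc'⟩

end Groth.Agent.DerAdj
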