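import Groth.Agent.DerAdj.Basic
import Groth.Agent.ModGroth.DerivedLeft

/-!
# The derived adjunction `LG ⊣ RF` from good resolutions on the left and K-injectives on the right
-/

set_option linter.style.haveILetI false

universe v w v' w' vh uh

open CategoryTheory CategoryTheory.Limits

attribute [local instance] HasDerivedCategory.standard

namespace Groth.Agent.DerAdj

variable {B : Type w} [Category.{v} B] [Abelian B] {A : Type w'} [Category.{v'} A] [Abelian A]

/-- Being left derived can be tested on complexes. -/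
theorem isLeftDerivedFunctor_of_quotient {H : Type uh} [Category.{vh} H]
    {P : HomotopyCategory B (ComplexShape.up ℤ) ⥤ H} (M : DerivedCategory B ⥤ H)
    (α : DerivedCategory.Qh ⋙ M ⟶ P)
    [M.IsLeftDerivedFunctor (L := ModGroth.DerivedLeft.L₀ B)
      (F := HomotopyCategory.quotient B (ComplexShape.up ℤ) ⋙ P)
      (Functor.whiskerLeft (HomotopyCategory.quotient B (ComplexShape.up ℤ)) α)
      (HomologicalComplex.quasiIso B (ComplexShape.up ℤ))] :
    M.IsLeftDerivedFunctor α (HomotopyCategory.quasiIso B (ComplexShape.up ℤ)) := by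
  let W := HomologicalComplex.quasiIso B (ComplexShape.up ℤ)
  let α₀ : ModGroth.DerivedLeft.L₀ B ⋙ M ⟶ HomotopyCategory.quotient B (ComplexShape.up ℤ) ⋙ P :=
    Functor.whiskerLeft (HomotopyCategory.quotient B (ComplexShape.up ℤ)) α
  refine ⟨⟨⟨Limits.IsTerminal.ofUniqueHom (fun E => CostructuredArrow.homMk
      (M.leftDerivedLift α₀ W E.left
        (Functor.whiskerLeft (HomotopyCategory.quotient B (ComplexShape.up ℤ)) E.hom))
      (NatTrans.ext (funext fun X => ?_))) ?_⟩⟩⟩
  · obtain ⟨K⟩ := X
    exact M.leftDerived_fac_app α₀ W E.left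
      (Functor.whiskerLeft (HomotopyCategory.quotient B (ComplexShape.up ℤ)) E.hom) K
  · intro E m
    refine CostructuredArrow.hom_ext _ _ ?_
    refine M.leftDerived_ext α₀ W E.left m.left _ (NatTrans.ext (funext fun K => ?_))
    refine (congrArg (fun t : NatTrans _ _ => t.app
      ((HomotopyCategory.quotient B (ComplexShape.up ℤ)).obj K)) (CostructuredArrow.w m)).trans ?_
    exact (M.leftDerived_fac_app α₀ W E.left
      (Functor.whiskerLeft (HomotopyCategory.quotient B (ComplexShape.up ℤ)) E.hom) K).symm

variable {G : B ⥤ A} {F : A ⥤ B} [G.Additive] [F.Additive]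

/-- `LG ⊣ RF` when `G` respects quasi-isomorphisms of good complexes and `A` has enough
K-injective complexes. -/
theorem nonempty_derived_adjunction_of_res (adj : G ⊣ F)
    {r : KFlat.FunctorialRes (HomologicalComplex.quasiIso B (ComplexShape.up ℤ))}
    (hG : ModGroth.DerivedLeft.GoodInverts G r)
    (hKinj : ∀ K : CochainComplex A ℤ, ∃ (I : CochainComplex A ℤ) (f : K ⟶ I),
      I.IsKInjective ∧ QuasiIso f)
    [(ModGroth.DerivedLeft.Kh G).HasLeftDerivedFunctor
      (HomotopyCategory.quasiIso B (ComplexShape.up ℤ))]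
    [(F.mapHomotopyCategory (ComplexShape.up ℤ) ⋙ DerivedCategory.Qh).HasRightDerivedFunctor
      (HomotopyCategory.quasiIso A (ComplexShape.up ℤ))] :
    Nonempty ((ModGroth.DerivedLeft.LG G) ⊣
      (F.mapHomotopyCategory (ComplexShape.up ℤ) ⋙ DerivedCategory.Qh).totalRightDerived
        DerivedCategory.Qh (HomotopyCategory.quasiIso A (ComplexShape.up ℤ))) := by
  let WA := HomotopyCategory.quasiIso A (ComplexShape.up ℤ)
  let WB := HomotopyCategory.quasiIso B (ComplexShape.up ℤ)
  let P := F.mapHomotopyCategory (ComplexShape.up ℤ) ⋙ DerivedCategory.Qh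
  let RF := P.totalRightDerived DerivedCategory.Qh WA
  let β := P.totalRightDerivedUnit DerivedCategory.Qh WA
  let LF := ModGroth.DerivedLeft.LG G
  let α := (ModGroth.DerivedLeft.Kh G).totalLeftDerivedCounit DerivedCategory.Qh WB
  haveI : (RF ⋙ LF).IsRightDerivedFunctor
      (Functor.whiskerRight β LF ≫ (Functor.associator _ _ _).hom) WA :=
    isRightDerivedFunctor_comp DerivedCategory.Qh WA (TriH.exists_kInjective_homotopy hKinj) RF β _
  haveI : (LF ⋙ RF).IsLeftDerivedFunctor
      ((Functor.associator _ _ _).inv ≫ Functor.whiskerRight α RF) WB := by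
    haveI : (LF ⋙ RF).IsLeftDerivedFunctor (L := ModGroth.DerivedLeft.L₀ B)
        (F := HomotopyCategory.quotient B (ComplexShape.up ℤ) ⋙
          ((G.mapHomotopyCategory (ComplexShape.up ℤ) ⋙ DerivedCategory.Qh) ⋙ RF))
        (Functor.whiskerLeft (HomotopyCategory.quotient B (ComplexShape.up ℤ))
          ((Functor.associator _ _ _).inv ≫ Functor.whiskerRight α RF))
        (HomologicalComplex.quasiIso B (ComplexShape.up ℤ)) := by
      refine r.isLeftDerivedFunctor_of_isIso (ModGroth.DerivedLeft.L₀ B) ?_ _ _ fun X hX => ?_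
      · intro X Y f hX hY hf
        haveI := hG.inverts f hX hY hf
        exact inferInstanceAs (IsIso (RF.map ((ModGroth.DerivedLeft.Φ G).map f)))
      · haveI := ModGroth.DerivedLeft.isLeftDerived_counit (G := G)
        haveI : IsIso ((ModGroth.DerivedLeft.counit G).app X) :=
          r.isIso_counit (ModGroth.DerivedLeft.L₀ B) hG.inverts LF (ModGroth.DerivedLeft.counit G) X hX
        simp only [Functor.whiskerLeft_app, NatTrans.comp_app, Functor.associator_inv_app,
          Functor.whiskerRight_app, Category.id_comp]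
        exact inferInstanceAs (IsIso (RF.map ((ModGroth.DerivedLeft.counit G).app X)))
    exact isLeftDerivedFunctor_of_quotient _ _
  exact ⟨(mapHomotopyCategoryAdj adj).derived WB WA α β⟩

end Groth.Agent.DerAdj
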