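import Groth.Agent.ModGroth.LpullComp
import Groth.Agent.DerAdj.LeftRes
import Groth.Agent.TriH.KInjExist

/-!
# `Lf^* ⊣ Rf_*` on derived categories of modules on schemes
-/

set_option linter.style.haveILetI false

universe u

open CategoryTheory CategoryTheory.Limits AlgebraicGeometry

attribute [local instance] HasDerivedCategory.standard

namespace Groth.Agent.DerAdj

theorem modules_hKinj (X : Scheme.{u}) (K : CochainComplex X.Modules ℤ) :
    ∃ (I : CochainComplex X.Modules ℤ) (f : K ⟶ I), I.IsKInjective ∧ QuasiIso f := by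
  haveI : IsGrothendieckAbelian.{u} X.Modules :=
    ModGroth.sheaf_isGrothendieckAbelian (ModSite.ringSh X.sheaf)
  obtain ⟨I, φ, h1, h2, -⟩ := TriH.exists_kInjective_resolution K
  exact ⟨I, φ, h1, h2⟩

theorem nonempty_Lpull_adj_Rpush {X Y : Scheme.{u}} (f : X ⟶ Y) [DCoh.HasLpull f] [DCoh.HasRpush f] :
    Nonempty (DCoh.Lpull f ⊣ DCoh.Rpush f) :=
  nonempty_derived_adjunction_of_res (Scheme.Modules.pullbackPushforwardAdjunction f)
    (ModGroth.Stalk.goodInverts_pullback f) (modules_hKinj X)

end Groth.Agent.DerAdj
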