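import Groth.Agent.DerAdj.RFProducts
import Groth.Agent.ModGroth.FreeOn
import Groth.Agent.ModGroth.Basic
import Groth.Agent.SSExist.ModGlobal
import Groth.Agent.SSExist.TotAcOps
import Groth.Agent.SSExist.PushAcyclic
import Groth.Prelude.Def_SiteCmp

/-!
# Free modules are acyclic for direct images of injective modules on ringed sites
-/

set_option autoImplicit false
set_option linter.style.haveILetI false

universe u w

open CategoryTheory CategoryTheory.Limits Opposite CategoryTheory.Abelian

namespace Groth.Agent.DerAdj.SiteFree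

open SSExist

variable {C : Type u} [SmallCategory C] {J : GrothendieckTopology C} {O : Sheaf J CommRingCat.{u}}

lemma hom_ext_top {M N : ModSite.Mod O} {a b : M ⟶ N}
    (h : ∀ (X : C) (s : M.val.obj (op X)), a.val.app (op X) s = b.val.app (op X) s) : a = b :=
  SheafOfModules.hom_ext (PresheafOfModules.hom_ext fun T => ModuleCat.hom_ext (LinearMap.ext fun s => h T.unop s))

/-- Extensions of sums of free modules by a totally acyclic module vanish. -/
lemma subsingleton_ext_sigma_free [HasExt.{w} (ModSite.Mod O)] [EnoughInjectives (ModSite.Mod O)] {ι : Type u}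
    (V : ι → C) [HasCoproduct fun i => ModSite.freeOn O (V i)] (n : ℕ) :
    ∀ M : ModSite.Mod O, CohCx.IsTotallyAcyclic (ModSite.toAb M) →
      Subsingleton (Ext.{w} (∐ fun i => ModSite.freeOn O (V i)) M (n + 1)) := by
  induction n with
  | zero =>
    intro M hM
    let S := ShortComplex.mk (Injective.ι M) (cokernel.π (Injective.ι M)) (cokernel.condition _)
    have hS : S.ShortExact :=
      { exact := ShortComplex.exact_of_g_is_cokernel _ (cokernelIsCokernel _)
        mono_f := inferInstanceAs (Mono (Injective.ι M)) }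
    refine subsingleton_of_forall_eq 0 fun x => ?_
    haveI : Injective S.X₂ := inferInstanceAs (Injective (Injective.under M))
    obtain ⟨y, rfl⟩ := Ext.covariant_sequence_exact₁ _ hS x (Ext.eq_zero_of_injective _) (n₀ := 0) rfl
    obtain ⟨φ, rfl⟩ := (Ext.mk₀_bijective _ _).2 y
    have hsurj : ∀ i, Function.Surjective (S.g.val.app (op (V i))) := fun i =>
      secAb_map_surjective (hS.map_of_exact (toAbF O)) hM (V i)
    have hl : ∀ i, ∃ ψ : ModSite.freeOn O (V i) ⟶ S.X₂,
        ψ ≫ S.g = Sigma.ι (fun i => ModSite.freeOn O (V i)) i ≫ φ := fun i => by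
      obtain ⟨s, hs⟩ := hsurj i (ModGroth.FreeOn.homEquiv O (V i) S.X₃
        (Sigma.ι (fun i => ModSite.freeOn O (V i)) i ≫ φ))
      refine ⟨(ModGroth.FreeOn.homEquiv O (V i) S.X₂).symm s, (ModGroth.FreeOn.homEquiv O (V i) S.X₃).injective ?_⟩
      rw [ModGroth.FreeOn.homEquiv_comp, Equiv.apply_symm_apply]
      exact hs
    choose ψ hψ using hl
    have hφ : Sigma.desc ψ ≫ S.g = φ := Sigma.hom_ext _ _ fun i => by rw [Sigma.ι_desc_assoc, hψ]
    rw [← hφ, ← Ext.mk₀_comp_mk₀, Ext.comp_assoc_of_second_deg_zero, ShortComplex.ShortExact.comp_extClass,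
      Ext.comp_zero]
  | succ n ih =>
    intro M hM
    let S := ShortComplex.mk (Injective.ι M) (cokernel.π (Injective.ι M)) (cokernel.condition _)
    have hS : S.ShortExact :=
      { exact := ShortComplex.exact_of_g_is_cokernel _ (cokernelIsCokernel _)
        mono_f := inferInstanceAs (Mono (Injective.ι M)) }
    refine subsingleton_of_forall_eq 0 fun x => ?_
    haveI : Injective S.X₂ := inferInstanceAs (Injective (Injective.under M))
    obtain ⟨y, rfl⟩ := Ext.covariant_sequence_exact₁ _ hS x (Ext.eq_zero_of_injective _) (n₀ := n + 1) rfl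
    haveI := ih S.X₃ (isTotallyAcyclic_cokernel (hS.map_of_exact (toAbF O)) hM
      (isTotallyAcyclic_toAb (flatInj_of_injective S.X₂)))
    rw [Subsingleton.elim y 0, Ext.zero_comp]

/-- Every module is a quotient of a sum of free modules. -/
lemma exists_epi_sigma_free [HasCoproducts.{u} (ModSite.Mod O)] (M : ModSite.Mod O) :
    ∃ (ι : Type u) (V : ι → C) (p : (∐ fun i => ModSite.freeOn O (V i)) ⟶ M), Epi p := by
  refine ⟨Σ X : C, M.val.obj (op X), fun i => i.1,
    Sigma.desc fun i => (ModGroth.FreeOn.homEquiv O i.1 M).symm i.2, ⟨fun {N} a b h => hom_ext_top fun X s => ?_⟩⟩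
  have := congrArg (fun z => ModGroth.FreeOn.homEquiv O X N
    (Sigma.ι (fun i : Σ X : C, M.val.obj (op X) => ModSite.freeOn O i.1) ⟨X, s⟩ ≫ z)) h
  simp only [Sigma.ι_desc_assoc, ModGroth.FreeOn.homEquiv_comp, Equiv.apply_symm_apply] at this
  exact this

variable {D : Type u} [SmallCategory D] {K : GrothendieckTopology D} {O' : Sheaf K CommRingCat.{u}}
  (f : ModSite.RMor O O')

/-- Direct images of injective modules have totally acyclic underlying sheaves. -/
lemma isTotallyAcyclic_push_injective {I : ModSite.Mod O} [Injective I] :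
    CohCx.IsTotallyAcyclic (ModSite.toAb (f.push.obj I)) := by
  haveI := Groth.Agent.SSExist.preservesInjectiveObjects_push J K f.fn
  exact Groth.Agent.SSExist.isTotallyAcyclic_push K f.fn
    (fun G hG => haveI := hG
      haveI : Injective ((CohSite.push J K f.fn).obj G) := (CohSite.push J K f.fn).injective_obj_of_injective hG
      isTotallyAcyclic_of_injective _)
    (isTotallyAcyclic_toAb (flatInj_of_injective I))

end Groth.Agent.DerAdj.SiteFree
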