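import Groth.Agent.DerAdj.Devissage

/-!
# Fully faithfulness of triangulated functors by dévissage
-/

set_option autoImplicit false
set_option linter.style.haveILetI false
set_option linter.unusedSectionVars false

open CategoryTheory CategoryTheory.Limits CategoryTheory.Pretriangulated

namespace Groth.Agent.DerAdj

section Triangulated

variable {C D : Type*} [Category* C] [Category* D] [HasZeroObject C] [HasZeroObject D]
  [Preadditive C] [Preadditive D] [HasShift C ℤ] [HasShift D ℤ]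
  [∀ n : ℤ, (shiftFunctor C n).Additive] [∀ n : ℤ, (shiftFunctor D n).Additive]
  [Pretriangulated C] [Pretriangulated D] (Φ : C ⥤ D) [Φ.CommShift ℤ] [Φ.IsTriangulated]

/-- `Φ` is bijective on morphisms from `X` to `Y`. -/
def BijHom (X Y : C) : Prop := Function.Bijective (Φ.map : (X ⟶ Y) → _)

theorem BijHom.of_iso {X X' Y Y' : C} (e : X ≅ X') (e' : Y ≅ Y') (h : BijHom Φ X Y) :
    BijHom Φ X' Y' := by
  refine ⟨fun f g hfg => ?_, fun φ => ?_⟩
  · have : e.hom ≫ f ≫ e'.inv = e.hom ≫ g ≫ e'.inv := h.1 (by simp [hfg])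
    simpa using this
  · obtain ⟨f, hf⟩ := h.2 (Φ.map e.hom ≫ φ ≫ Φ.map e'.inv)
    exact ⟨e.inv ≫ f ≫ e'.hom, by rw [Functor.map_comp, Functor.map_comp, hf]; simp⟩

theorem BijHom.of_isZero {X Y : C} (h : IsZero X ∨ IsZero Y) : BijHom Φ X Y := by
  refine ⟨fun f g _ => ?_, fun φ => ⟨0, ?_⟩⟩
  · rcases h with h | h
    · exact h.eq_of_src _ _
    · exact h.eq_of_tgt _ _
  · rcases h with h | h
    · exact (Φ.map_isZero h).eq_of_src _ _
    · exact (Φ.map_isZero h).eq_of_tgt _ _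

theorem BijHom.shift {X Y : C} (h : BijHom Φ X Y) (n : ℤ) : BijHom Φ (X⟦n⟧) (Y⟦n⟧) := by
  refine ⟨fun f g hfg => ?_, fun φ => ?_⟩
  · obtain ⟨f, rfl⟩ := (shiftFunctor C n).map_surjective f
    obtain ⟨g, rfl⟩ := (shiftFunctor C n).map_surjective g
    refine congrArg _ (h.1 ((shiftFunctor D n).map_injective ?_))
    rw [← cancel_epi ((Φ.commShiftIso n).hom.app X)]
    rw [← Functor.commShiftIso_hom_naturality Φ f n, ← Functor.commShiftIso_hom_naturality Φ g n, hfg]
  · obtain ⟨ψ, hψ⟩ := (shiftFunctor D n).map_surjective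
      ((Φ.commShiftIso n).inv.app X ≫ φ ≫ (Φ.commShiftIso n).hom.app Y)
    obtain ⟨f, rfl⟩ := h.2 ψ
    refine ⟨f⟦n⟧', ?_⟩
    rw [← cancel_mono ((Φ.commShiftIso n).hom.app Y), Functor.commShiftIso_hom_naturality, hψ]
    simp

theorem bijHom_obj₂_of_triangle {T : Triangle C} (hT : T ∈ distinguishedTriangles) (K : C)
    (h₁ : BijHom Φ K T.obj₁) (h₁' : BijHom Φ K (T.obj₁⟦(1 : ℤ)⟧))
    (h₃ : BijHom Φ K T.obj₃) (h₃' : BijHom Φ K (T.obj₃⟦(-1 : ℤ)⟧)) : BijHom Φ K T.obj₂ := by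
  have hΦT := Φ.map_distinguished T hT
  have hT' := inv_rot_of_distTriang _ hT
  have hΦT' := Φ.map_distinguished _ hT'
  refine ⟨fun f g hfg => sub_eq_zero.1 ?_, fun φ => ?_⟩
  · have h0 : Φ.map (f - g) = 0 := by rw [Functor.map_sub, hfg, sub_self]
    obtain ⟨a, ha⟩ := T.coyoneda_exact₂ hT (f - g) (h₃.1 (by
      rw [Functor.map_comp, h0, zero_comp, Functor.map_zero]))
    obtain ⟨b, hb⟩ := (Φ.mapTriangle.obj T.invRotate).coyoneda_exact₂ hΦT' (Φ.map a) (by
      change Φ.map a ≫ Φ.map T.mor₁ = 0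
      rw [← Functor.map_comp, ← ha, h0])
    obtain ⟨b', rfl⟩ := h₃'.2 b
    have : a = b' ≫ T.invRotate.mor₁ := h₁.1 (hb.trans (Φ.map_comp b' T.invRotate.mor₁).symm)
    let w : T.obj₃⟦(-1 : ℤ)⟧ ⟶ T.obj₁ := T.invRotate.mor₁
    have hw : w ≫ T.mor₁ = 0 := comp_distTriang_mor_zero₁₂ _ hT'
    rw [ha, show a = b' ≫ w from this, Category.assoc, hw, comp_zero]
  · obtain ⟨c, hc⟩ := h₃.2 (φ ≫ Φ.map T.mor₂)
    obtain ⟨f, hf⟩ := T.coyoneda_exact₃ hT c (h₁'.1 (by
      rw [Functor.map_zero, Functor.map_comp, hc, Category.assoc, ← Functor.map_comp,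
        comp_distTriang_mor_zero₂₃ _ hT, Functor.map_zero, comp_zero]))
    obtain ⟨a, ha⟩ := (Φ.mapTriangle.obj T).coyoneda_exact₂ hΦT (φ - Φ.map f) (by
      change (φ - Φ.map f) ≫ Φ.map T.mor₂ = 0
      rw [Preadditive.sub_comp, ← Functor.map_comp, ← hf, hc, sub_self])
    obtain ⟨a', rfl⟩ := h₁.2 a
    refine ⟨f + a' ≫ T.mor₁, ?_⟩
    rw [Functor.map_add, Functor.map_comp]
    exact (congrArg (Φ.map f + ·) ha.symm).trans (add_sub_cancel _ _)

theorem bijHom_obj₂_of_triangle' {T : Triangle C} (hT : T ∈ distinguishedTriangles) (L : C)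
    (h₁ : BijHom Φ T.obj₁ L) (h₁' : BijHom Φ (T.obj₁⟦(1 : ℤ)⟧) L)
    (h₃ : BijHom Φ T.obj₃ L) (h₃' : BijHom Φ (T.obj₃⟦(-1 : ℤ)⟧) L) : BijHom Φ T.obj₂ L := by
  have hΦT := Φ.map_distinguished T hT
  have hΦT' := Φ.map_distinguished _ (rot_of_distTriang _ hT)
  refine ⟨fun f g hfg => sub_eq_zero.1 ?_, fun φ => ?_⟩
  · have h0 : Φ.map (f - g) = 0 := by rw [Functor.map_sub, hfg, sub_self]
    obtain ⟨a, ha⟩ := T.yoneda_exact₂ hT (f - g) (h₁.1 (by
      rw [Functor.map_comp, h0, comp_zero, Functor.map_zero]))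
    obtain ⟨b, hb⟩ := (Φ.mapTriangle.obj T.rotate).yoneda_exact₂ hΦT' (Φ.map a) (by
      change Φ.map T.mor₂ ≫ Φ.map a = 0
      rw [← Functor.map_comp, ← ha, h0])
    obtain ⟨b', rfl⟩ := h₁'.2 b
    have : a = T.mor₃ ≫ b' := h₃.1 (hb.trans (Φ.map_comp T.mor₃ b').symm)
    rw [ha, this, ← Category.assoc, comp_distTriang_mor_zero₂₃ _ hT, zero_comp]
  · obtain ⟨c, hc⟩ := h₁.2 (Φ.map T.mor₁ ≫ φ)
    let w : T.obj₃⟦(-1 : ℤ)⟧ ⟶ T.obj₁ := T.invRotate.mor₁
    have hw : w ≫ T.mor₁ = 0 := comp_distTriang_mor_zero₁₂ _ (inv_rot_of_distTriang _ hT)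
    have hwc : w ≫ c = 0 := h₃'.1 (by
      rw [Functor.map_comp, hc, ← Category.assoc, ← Functor.map_comp, hw, Functor.map_zero,
        zero_comp, Functor.map_zero])
    obtain ⟨f, hf⟩ : ∃ f : T.obj₂ ⟶ L, c = T.mor₁ ≫ f :=
      T.invRotate.yoneda_exact₂ (inv_rot_of_distTriang _ hT) c hwc
    obtain ⟨a, ha⟩ := (Φ.mapTriangle.obj T).yoneda_exact₂ hΦT (φ - Φ.map f) (by
      change Φ.map T.mor₁ ≫ (φ - Φ.map f) = 0
      rw [Preadditive.comp_sub, ← Functor.map_comp, ← hc, sub_eq_zero]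
      exact congrArg Φ.map hf)
    obtain ⟨a', rfl⟩ := h₃.2 a
    refine ⟨f + T.mor₂ ≫ a', ?_⟩
    rw [Functor.map_add, Functor.map_comp]
    exact (congrArg (Φ.map f + ·) ha.symm).trans (add_sub_cancel _ _)

end Triangulated

section Derived

universe w v u

variable {A : Type u} [Category.{v} A] [Abelian A] [HasDerivedCategory.{w} A]

open DerivedCategory

/-- Induction over bounded objects of the derived category. -/
theorem induction_bounded (P : DerivedCategory A → Prop)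
    (hiso : ∀ X Y, (X ≅ Y) → P X → P Y) (hzero : ∀ X, IsZero X → P X)
    (hext : ∀ T : Triangle (DerivedCategory A), T ∈ distinguishedTriangles → P T.obj₁ → P T.obj₃ → P T.obj₂)
    (k : ℕ) : ∀ (Y : DerivedCategory A) (n : ℤ) [Y.IsGE n] [Y.IsLE (n + k - 1)],
      (∀ q q', P ((singleFunctor A q).obj ((homologyFunctor A q').obj Y))) → P Y := by
  induction k with
  | zero =>
    intro Y n _ _ _
    exact hzero Y (isZero_of_isLE_of_isGE Y n (n + (0 : ℕ) - 1) (by lia))
  | succ k ih =>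
    intro Y n _ _ hY
    obtain ⟨T, hT, rfl, hle, hh, ⟨e⟩⟩ := PCohLib.exists_top_triangle Y (n + (k + 1 : ℕ) - 1)
    have : T.obj₁.IsLE (n + k - 1) := by
      have := hle
      exact TStructure.t.isLE_of_le _ (n + (k + 1 : ℕ) - 1 - 1) _ (by lia)
    have : T.obj₁.IsGE n := by
      rw [isGE_iff]
      intro i hi
      exact (T.obj₂.isZero_of_isGE n i hi).of_iso (hh i (by lia)).some
    refine hext T hT (ih T.obj₁ n fun q q' => ?_) (hiso _ _ e.symm (hY _ _))
    by_cases hq : q' < n + (k + 1 : ℕ) - 1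
    · exact hiso _ _ ((singleFunctor A q).mapIso (hh q' hq).some.symm) (hY q q')
    · exact hzero _ ((singleFunctor A q).map_isZero (T.obj₁.isZero_of_isLE (n + k - 1) q' (by lia)))

theorem exists_bounds (Y : DerivedCategory A) (h : TStructure.t.bounded Y) :
    ∃ (n : ℤ) (k : ℕ), Y.IsGE n ∧ Y.IsLE (n + k - 1) := by
  obtain ⟨⟨n, hn⟩, m, hm⟩ := h
  haveI : Y.IsLE m := hm
  exact ⟨n, (m - n + 1).toNat, hn, TStructure.t.isLE_of_le Y m _ (by lia)⟩

end Derived

section Exact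

universe w w' v v' u u'

variable {A : Type u} {B : Type u'} [Category.{v} A] [Category.{v'} B] [Abelian A] [Abelian B]
  [HasDerivedCategory.{w} A] [HasDerivedCategory.{w'} B]
  (G : A ⥤ B) [G.Additive] [PreservesFiniteLimits G] [PreservesFiniteColimits G]
  (P : ObjectProperty A) [P.IsClosedUnderIsomorphisms] [P.ContainsZero]
  (Q : ObjectProperty B) [Q.IsClosedUnderIsomorphisms] [Q.ContainsZero]

open DerivedCategory

/-- `singleFunctor n` as a shift of `singleFunctor 0`. -/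
noncomputable def singleShiftIso (H : A) (q : ℤ) :
    (singleFunctor A q).obj H ≅ ((singleFunctor A 0).obj H)⟦(-q)⟧ :=
  (((singleFunctors A).shiftIso (-q) q 0 (by lia)).app H).symm

theorem bijHom_of_bounded
    (h2 : ∀ F F' : A, P F → P F' → ∀ n : ℤ,
      BijHom G.mapDerivedCategory ((singleFunctor A 0).obj F) (((singleFunctor A 0).obj F')⟦n⟧))
    (K L : DerivedCategory A) (hKb : TStructure.t.bounded K) (hLb : TStructure.t.bounded L)
    (hK : ∀ q, P ((homologyFunctor A q).obj K)) (hL : ∀ q, P ((homologyFunctor A q).obj L)) :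
    BijHom G.mapDerivedCategory K L := by
  have step : ∀ F : A, P F → ∀ n : ℤ,
      BijHom G.mapDerivedCategory ((singleFunctor A 0).obj F) (L⟦n⟧) := by
    intro F hF
    obtain ⟨m, k, _, _⟩ := exists_bounds L hLb
    refine induction_bounded (fun L => ∀ n : ℤ, BijHom G.mapDerivedCategory
      ((singleFunctor A 0).obj F) (L⟦n⟧)) ?_ ?_ ?_ k L m ?_
    · exact fun X Y e h n => (h n).of_iso _ (Iso.refl _) ((shiftFunctor _ n).mapIso e)
    · exact fun X h n => BijHom.of_isZero _ (Or.inr ((shiftFunctor _ n).map_isZero h))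
    · intro T hT h₁ h₃ n
      exact bijHom_obj₂_of_triangle _ (Triangle.shift_distinguished _ hT n) _ (h₁ n)
        ((h₁ (n + 1)).of_iso _ (Iso.refl _) ((shiftFunctorAdd' _ n 1 _ rfl).app _)) (h₃ n)
        ((h₃ (n + -1)).of_iso _ (Iso.refl _) ((shiftFunctorAdd' _ n (-1) _ rfl).app _))
    · intro q q' n
      exact (h2 F _ hF (hL q') (-q + n)).of_iso _ (Iso.refl _)
        ((shiftFunctorAdd' _ (-q) n _ rfl).app _ ≪≫ (shiftFunctor _ n).mapIso (singleShiftIso _ q).symm)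
  obtain ⟨m, k, _, _⟩ := exists_bounds K hKb
  have key : ∀ n : ℤ, BijHom G.mapDerivedCategory (K⟦n⟧) L := by
    refine induction_bounded (fun K => ∀ n : ℤ, BijHom G.mapDerivedCategory (K⟦n⟧) L) ?_ ?_ ?_ k K m ?_
    · exact fun X Y e h n => (h n).of_iso _ ((shiftFunctor _ n).mapIso e) (Iso.refl _)
    · exact fun X h n => BijHom.of_isZero _ (Or.inl ((shiftFunctor _ n).map_isZero h))
    · intro T hT h₁ h₃ n
      exact bijHom_obj₂_of_triangle' _ (Triangle.shift_distinguished _ hT n) _ (h₁ n)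
        ((h₁ (n + 1)).of_iso _ ((shiftFunctorAdd' _ n 1 _ rfl).app _) (Iso.refl _)) (h₃ n)
        ((h₃ (n + -1)).of_iso _ ((shiftFunctorAdd' _ n (-1) _ rfl).app _) (Iso.refl _))
    · intro q q' n
      exact ((step _ (hK q') (-(-q + n))).shift _ (-q + n)).of_iso _
        ((shiftFunctorAdd' _ (-q) n _ rfl).app _ ≪≫ (shiftFunctor _ n).mapIso (singleShiftIso _ q).symm)
        ((shiftFunctorCompIsoId _ (-(-q + n)) (-q + n) (by lia)).app L)
  exact (key 0).of_iso _ ((shiftFunctorZero _ ℤ).app K) (Iso.refl _)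

theorem exists_preimage_of_bounded
    (h2 : ∀ F F' : A, P F → P F' → ∀ n : ℤ,
      BijHom G.mapDerivedCategory ((singleFunctor A 0).obj F) (((singleFunctor A 0).obj F')⟦n⟧))
    (hes : ∀ H : B, Q H → ∃ F : A, P F ∧ Nonempty (G.obj F ≅ H))
    (k : ℕ) : ∀ (M : DerivedCategory B) (n : ℤ) [M.IsGE n] [M.IsLE (n + k - 1)],
      (∀ q, Q ((homologyFunctor B q).obj M)) →
        ∃ K : DerivedCategory A, K.IsGE n ∧ K.IsLE (n + k - 1) ∧
          (∀ q, P ((homologyFunctor A q).obj K)) ∧ Nonempty (G.mapDerivedCategory.obj K ≅ M) := by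
  induction k with
  | zero =>
    intro M n _ _ _
    obtain ⟨Z, hz⟩ := HasZeroObject.zero (C := DerivedCategory A)
    exact ⟨Z, (isGE_iff _ _).2 fun i _ => (homologyFunctor A i).map_isZero hz,
      (isLE_iff _ _).2 fun i _ => (homologyFunctor A i).map_isZero hz,
      fun q => P.prop_of_isZero ((homologyFunctor A q).map_isZero hz),
      ⟨(G.mapDerivedCategory.map_isZero hz).iso (isZero_of_isLE_of_isGE M n (n + (0 : ℕ) - 1) (by lia))⟩⟩
  | succ k ih =>
    intro M n _ _ hM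
    obtain ⟨T, hT, rfl, hle, hiso, ⟨e⟩⟩ := PCohLib.exists_top_triangle M (n + (k + 1 : ℕ) - 1)
    generalize hb : n + ((k + 1 : ℕ) : ℤ) - 1 = b at *
    have : T.obj₁.IsLE (n + k - 1) := TStructure.t.isLE_of_le _ (b - 1) _ (by lia)
    have : T.obj₁.IsGE n := by
      rw [isGE_iff]
      intro i hi
      exact (T.obj₂.isZero_of_isGE n i hi).of_iso (hiso i (by lia)).some
    obtain ⟨K₁, hK₁ge, hK₁le, hK₁, ⟨e₁⟩⟩ := ih T.obj₁ n fun q => by
      by_cases hq : q < b
      · exact Q.prop_of_iso (hiso q hq).some.symm (hM q)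
      · exact Q.prop_of_isZero (T.obj₁.isZero_of_isLE (n + k - 1) q (by lia))
    obtain ⟨F, hF, ⟨eF⟩⟩ := hes _ (hM b)
    let K₃ := (singleFunctor A b).obj F
    let e₃ : G.mapDerivedCategory.obj K₃ ≅ T.obj₃ :=
      (G.mapDerivedCategorySingleFunctor b).app F ≪≫ (singleFunctor B b).mapIso eF ≪≫ e.symm
    have hbij : BijHom G.mapDerivedCategory K₃ (K₁⟦(1 : ℤ)⟧) := by
      refine bijHom_of_bounded G P h2 _ _ ⟨⟨b, inferInstance⟩, b, inferInstance⟩
        ⟨⟨n - 1, TStructure.t.isGE_shift K₁ n 1 (n - 1) (by lia)⟩,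
          n + k - 1 - 1, TStructure.t.isLE_shift K₁ (n + k - 1) 1 (n + k - 1 - 1) (by lia)⟩
        (fun q => ?_) fun q => ?_
      · by_cases hq : q = b
        · subst hq
          exact P.prop_of_iso (PCohLib.singleHomologyIso q F).symm hF
        · rcases lt_or_gt_of_ne hq with h | h
          · exact P.prop_of_isZero (K₃.isZero_of_isGE b q h)
          · exact P.prop_of_isZero (K₃.isZero_of_isLE b q h)
      · exact P.prop_of_iso ((((homologyFunctor A 0).shiftIso 1 q (q + 1) (by lia)).app K₁).symm) (hK₁ (q + 1))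
    obtain ⟨δ, hδ⟩ := hbij.2 (e₃.hom ≫ T.mor₃ ≫ e₁.inv⟦(1 : ℤ)⟧' ≫
      (G.mapDerivedCategory.commShiftIso (1 : ℤ)).inv.app K₁)
    obtain ⟨K, f, g, hK⟩ := distinguished_cocone_triangle₂ δ
    haveI : (Triangle.mk f g δ).obj₃.IsGE b := inferInstanceAs (K₃.IsGE b)
    haveI : (Triangle.mk f g δ).obj₃.IsLE b := inferInstanceAs (K₃.IsLE b)
    haveI : (Triangle.mk f g δ).obj₁.IsGE n := hK₁ge
    haveI : (Triangle.mk f g δ).obj₁.IsLE (n + k - 1) := hK₁le
    have hlt : ∀ q < b, Nonempty ((homologyFunctor A q).obj K₁ ≅ (homologyFunctor A q).obj K) := by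
      intro q hq
      have hiq := isIso_homology_mor₁ hK b q hq
      exact ⟨@asIso _ _ _ _ _ hiq⟩
    have hgt : ∀ q, b < q → IsZero ((homologyFunctor A q).obj K) := fun q hq =>
      (HomologySequence.exact₂ _ hK q).isZero_of_both_zeros
        ((K₁.isZero_of_isLE (n + k - 1) q (by lia)).eq_of_src _ _)
        ((K₃.isZero_of_isLE b q hq).eq_of_tgt _ _)
    have hge : K.IsGE n := by
      rw [isGE_iff]
      intro i hi
      exact (K₁.isZero_of_isGE n i hi).of_iso (hlt i (by lia)).some.symm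
    have hle' : K.IsLE b := by
      rw [isLE_iff]
      exact hgt
    refine ⟨K, hge, hle', fun q => ?_, ?_⟩
    · rcases lt_trichotomy q b with hq | hq | hq
      · exact P.prop_of_iso (hlt q hq).some (hK₁ q)
      · subst hq
        have : Mono ((homologyFunctor A q).map (Triangle.mk f g δ).mor₂) :=
          (HomologySequence.mono_homologyMap_mor₂_iff _ hK q).2
            ((K₁.isZero_of_isLE (n + k - 1) q (by lia)).eq_of_src _ _)
        have : Epi ((homologyFunctor A q).map (Triangle.mk f g δ).mor₂) :=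
          (HomologySequence.epi_homologyMap_mor₂_iff _ hK q (q + 1) rfl).2
            ((K₁.isZero_of_isLE (n + k - 1) (q + 1) (by lia)).eq_of_tgt _ _)
        have hiq := isIso_of_mono_of_epi ((homologyFunctor A q).map (Triangle.mk f g δ).mor₂)
        exact P.prop_of_iso ((PCohLib.singleHomologyIso q F).symm ≪≫ (@asIso _ _ _ _ _ hiq).symm) hF
      · exact P.prop_of_isZero (hgt q hq)
    · have hΦK := G.mapDerivedCategory.map_distinguished _ hK
      obtain ⟨β, hβ₁, hβ₂⟩ := complete_distinguished_triangle_morphism₂ _ _ hΦK hT e₁.hom e₃.hom (by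
        change (G.mapDerivedCategory.map δ ≫ (G.mapDerivedCategory.commShiftIso (1 : ℤ)).hom.app K₁) ≫
          e₁.hom⟦(1 : ℤ)⟧' = e₃.hom ≫ T.mor₃
        rw [hδ]
        simp [← Functor.map_comp])
      let φ : G.mapDerivedCategory.mapTriangle.obj (Triangle.mk f g δ) ⟶ T :=
        { hom₁ := e₁.hom
          hom₂ := β
          hom₃ := e₃.hom
          comm₁ := hβ₁
          comm₂ := hβ₂
          comm₃ := by
            change (G.mapDerivedCategory.map δ ≫ (G.mapDerivedCategory.commShiftIso (1 : ℤ)).hom.app K₁) ≫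
              e₁.hom⟦(1 : ℤ)⟧' = e₃.hom ≫ T.mor₃
            rw [hδ]
            simp [← Functor.map_comp] }
      have hβ : IsIso β := isIso₂_of_isIso₁₃ φ hΦK hT (inferInstanceAs (IsIso e₁.hom))
        (inferInstanceAs (IsIso e₃.hom))
      exact ⟨@asIso _ _ _ _ β hβ⟩

end Exact

end Groth.Agent.DerAdj
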