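import Groth.Agent.DerAdj.RFTriangle
import Mathlib.CategoryTheory.Abelian.RightDerived
import Mathlib.CategoryTheory.Abelian.Injective.Extend
import Mathlib.Algebra.Homology.Embedding.ExtendHomology
import Mathlib.Algebra.Homology.HomotopyCategory.KInjective

/-!
# `RF` on K-injective complexes and on objects placed in one degree
-/

set_option autoImplicit false
set_option linter.style.haveILetI false

universe w w' v v' u u'

open CategoryTheory CategoryTheory.Limits CategoryTheory.Pretriangulated

namespace Groth.Agent.DerAdj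

variable {A : Type u} [Category.{v} A] [Abelian A] {B : Type u'} [Category.{v'} B] [Abelian B]
  (F : A ⥤ B) [F.Additive]

open scoped Classical in
/-- An additive functor commutes with extension by zero. -/
noncomputable def mapExtendIso (K : CochainComplex A ℕ) :
    (F.mapHomologicalComplex (ComplexShape.up ℤ)).obj (K.extend ComplexShape.embeddingUpNat) ≅
      ((F.mapHomologicalComplex (ComplexShape.up ℕ)).obj K).extend ComplexShape.embeddingUpNat :=
  HomologicalComplex.Hom.isoOfComponents
    (fun n => if h : 0 ≤ n then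
        F.mapIso (K.extendXIso ComplexShape.embeddingUpNat (i := n.toNat) (Int.toNat_of_nonneg h)) ≪≫
          (((F.mapHomologicalComplex (ComplexShape.up ℕ)).obj K).extendXIso ComplexShape.embeddingUpNat
            (i := n.toNat) (Int.toNat_of_nonneg h)).symm
      else IsZero.iso
        (F.map_isZero (K.isZero_extend_X _ _ fun i (hi : (i : ℤ) = n) => h (hi ▸ Int.natCast_nonneg i)))
        (((F.mapHomologicalComplex (ComplexShape.up ℕ)).obj K).isZero_extend_X _ _
          fun i (hi : (i : ℤ) = n) => h (hi ▸ Int.natCast_nonneg i)))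
    (fun i j (hij : i + 1 = j) => by
      by_cases hi : 0 ≤ i
      · obtain ⟨k, rfl⟩ := Int.eq_ofNat_of_zero_le hi
        obtain rfl : j = ((k + 1 : ℕ) : ℤ) := by omega
        rw [dif_pos hi, dif_pos (Int.natCast_nonneg (k + 1))]
        have ha : ComplexShape.embeddingUpNat.f k = (k : ℤ) := rfl
        have hb : ComplexShape.embeddingUpNat.f (k + 1) = ((k + 1 : ℕ) : ℤ) := rfl
        change (F.mapIso (K.extendXIso _ ha) ≪≫ (((F.mapHomologicalComplex _).obj K).extendXIso _ ha).symm).hom ≫ _ =
          F.map _ ≫ (F.mapIso (K.extendXIso _ hb) ≪≫ (((F.mapHomologicalComplex _).obj K).extendXIso _ hb).symm).hom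
        rw [HomologicalComplex.extend_d_eq _ _ ha hb, HomologicalComplex.extend_d_eq _ _ ha hb]
        simp
        exact congrArg (_ ≫ ·) (Iso.inv_hom_id_assoc _ _)
      · exact (F.map_isZero (K.isZero_extend_X _ _
          fun l (hl : (l : ℤ) = i) => hi (hl ▸ Int.natCast_nonneg l))).eq_of_src _ _)

variable [HasDerivedCategory.{w} A] [HasDerivedCategory.{w'} B]
  [(F.mapHomotopyCategory (ComplexShape.up ℤ) ⋙ DerivedCategory.Qh).HasRightDerivedFunctor
    (HomotopyCategory.quasiIso A (ComplexShape.up ℤ))]

/-- `RF` of a K-injective complex is computed termwise. -/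
theorem nonempty_RF_iso
    (hKinj : ∀ K : CochainComplex A ℤ, ∃ (I : CochainComplex A ℤ) (f : K ⟶ I), I.IsKInjective ∧ QuasiIso f)
    (I : CochainComplex A ℤ) [I.IsKInjective] :
    Nonempty ((RFun F).obj (DerivedCategory.Q.obj I) ≅
      DerivedCategory.Q.obj ((F.mapHomologicalComplex _).obj I)) := by
  let WA := HomotopyCategory.quasiIso A (ComplexShape.up ℤ)
  let P := F.mapHomotopyCategory (ComplexShape.up ℤ) ⋙ DerivedCategory.Qh
  let β := P.totalRightDerivedUnit DerivedCategory.Qh WA
  haveI : P.HasPointwiseRightDerivedFunctor WA :=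
    TriH.hasPointwiseRightDerivedFunctor_of_bijective (L := DerivedCategory.Qh)
      (TriH.exists_kInjective_homotopy hKinj) P
  haveI : IsIso (β.app ((HomotopyCategory.quotient A _).obj I)) :=
    TriH.isIso_unit_of_bijective (W := WA) P (RFun F) β _
      (fun X => ObjectProperty.rightOrthogonal.map_bijective_of_isTriangulated
        (CochainComplex.IsKInjective.rightOrthogonal I) _ _)
  exact ⟨(RFun F).mapIso ((DerivedCategory.quotientCompQhIso A).app I).symm ≪≫
    (asIso (β.app ((HomotopyCategory.quotient A _).obj I))).symm ≪≫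
    DerivedCategory.Qh.mapIso ((F.mapHomotopyCategoryFactors _).app I) ≪≫
    (DerivedCategory.quotientCompQhIso B).app _⟩

/-- The cohomology of `RF` on an object placed in degree `a`. -/
theorem nonempty_homology_RF_single [HasInjectiveResolutions A]
    (hKinj : ∀ K : CochainComplex A ℤ, ∃ (I : CochainComplex A ℤ) (f : K ⟶ I), I.IsKInjective ∧ QuasiIso f)
    (X : A) (a i : ℤ) :
    (i < a → IsZero ((DerivedCategory.homologyFunctor B i).obj
      ((RFun F).obj ((DerivedCategory.singleFunctor A a).obj X)))) ∧
    ∀ p : ℕ, a + (p : ℤ) = i → Nonempty ((DerivedCategory.homologyFunctor B i).obj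
      ((RFun F).obj ((DerivedCategory.singleFunctor A a).obj X)) ≅ (F.rightDerived p).obj X) := by
  let R := injectiveResolution X
  let L : CochainComplex A ℤ := R.cochainComplex⟦-a⟧
  haveI : L.IsStrictlyGE a := R.cochainComplex.isStrictlyGE_shift 0 (-a) a (by omega)
  haveI : ∀ n : ℤ, Injective (L.X n) := fun n => inferInstanceAs (Injective (R.cochainComplex.X (n + -a)))
  haveI : L.IsKInjective := CochainComplex.isKInjective_of_injective L a
  obtain ⟨e⟩ := nonempty_RF_iso F hKinj L
  haveI : IsIso (DerivedCategory.Q.map R.ι') := inferInstance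
  let eX : (DerivedCategory.singleFunctor A a).obj X ≅ DerivedCategory.Q.obj L :=
    (((DerivedCategory.singleFunctors A).shiftIso (-a) a 0 (by omega)).app X).symm ≪≫
      (shiftFunctor (DerivedCategory A) (-a)).mapIso
        ((DerivedCategory.singleFunctorIsoCompQ A 0).app X ≪≫ asIso (DerivedCategory.Q.map R.ι')) ≪≫
      (DerivedCategory.Q.commShiftIso (-a)).symm.app R.cochainComplex
  let FR := (F.mapHomologicalComplex (ComplexShape.up ℤ)).obj R.cochainComplex
  let eH : (DerivedCategory.homologyFunctor B i).obj ((RFun F).obj ((DerivedCategory.singleFunctor A a).obj X)) ≅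
      FR.homology (i - a) :=
    (DerivedCategory.homologyFunctor B i).mapIso ((RFun F).mapIso eX ≪≫ e) ≪≫
      (DerivedCategory.homologyFunctorFactors B i).app _ ≪≫
      (HomologicalComplex.homologyFunctor B (ComplexShape.up ℤ) i).mapIso
        (((F.mapHomologicalComplex (ComplexShape.up ℤ)).commShiftIso (-a)).app R.cochainComplex) ≪≫
      ((HomologicalComplex.homologyFunctor B (ComplexShape.up ℤ) 0).shiftIso (-a) i (i - a) (by omega)).app FR
  refine ⟨fun hi => ?_, fun p hp => ?_⟩
  · refine IsZero.of_iso ?_ eH
    refine ShortComplex.isZero_homology_of_isZero_X₂ _ ?_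
    exact F.map_isZero (R.cochainComplex.isZero_of_isStrictlyGE 0 (i - a) (by omega))
  · refine ⟨eH ≪≫ (HomologicalComplex.homologyFunctor B _ (i - a)).mapIso (mapExtendIso F R.cocomplex) ≪≫ ?_ ≪≫
      (R.isoRightDerivedObj F p).symm⟩
    exact HomologicalComplex.extendHomologyIso ((F.mapHomologicalComplex _).obj R.cocomplex) ComplexShape.embeddingUpNat
      (j := p) (j' := i - a) (by simp only [ComplexShape.embeddingUpNat_f]; omega)

end Groth.Agent.DerAdj
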