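import Groth.Agent.DerAdj.RFTriangle
import Groth.Agent.TriH.DerivedProducts
import Groth.Agent.TriH.RightRes
import Groth.Agent.KFlat.Tensor
import Groth.Agent.ModGroth.LTensor
import Mathlib.Algebra.Homology.DerivedCategory.Ext.ExactSequences

/-!
# `RF` preserves products for a right adjoint `F` with enough left `F`-acyclic objects

No exactness or derivability of the left adjoint is needed: it suffices that every object is a quotient of an
object `X` with `Ext^{n+1}(X, F I) = 0` for all injective `I`.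
-/

set_option linter.style.haveILetI false

universe w w' w'' v v' u u' t

open CategoryTheory CategoryTheory.Limits Pretriangulated Abelian HomologicalComplex CochainComplex

namespace Groth.Agent.DerAdj.Products

variable {A : Type u} [Category.{v} A] [Abelian A] {B : Type u'} [Category.{v'} B] [Abelian B]
  [HasExt.{w''} B] (F : A ⥤ B)

/-- Objects orthogonal to the images of injectives. -/
def LAcyclic (X : B) : Prop :=
  ∀ (I : A), Injective I → ∀ n : ℕ, Subsingleton (Ext.{w''} X (F.obj I) (n + 1))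

lemma lAcyclic_of_isZero {X : B} (hX : IsZero X) : LAcyclic F X := fun I _ n =>
  subsingleton_of_forall_eq 0 fun x => by
    rw [← Ext.mk₀_id_comp x, hX.eq_of_src (𝟙 X) 0, Ext.mk₀_zero, Ext.zero_comp]

lemma lAcyclic_biprod {X Y : B} (hX : LAcyclic F X) (hY : LAcyclic F Y) : LAcyclic F (X ⊞ Y) :=
  fun I hI n => by
    haveI := hX I hI n
    haveI := hY I hI n
    exact Ext.biprodAddEquiv.injective.subsingleton

/-- The test on cycles. -/
lemma exists_desc_of_exact {T : CochainComplex B ℤ} (hac : T.Acyclic) (a : ℤ) [T.IsStrictlyLE a] (M : B)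
    (hM : ∀ (j : ℤ) (n : ℕ), Subsingleton (Ext.{w''} (T.X j) M (n + 1))) (j : ℤ) (u : T.X j ⟶ M)
    (hu : T.d (j - 1) j ≫ u = 0) : ∃ v : T.X (j + 1) ⟶ M, T.d j (j + 1) ≫ v = u := by
  let Z : ℤ → B := fun k => kernel (T.d k (k + 1))
  let p : ∀ k l m : ℤ, k + 1 = l → l + 1 = m → (T.X k ⟶ kernel (T.d l m)) := fun k l m _ _ =>
    kernel.lift _ (T.d k l) (T.d_comp_d k l m)
  have hp : ∀ k l m (h1 : k + 1 = l) (h2 : l + 1 = m), Epi (p k l m h1 h2) := fun k l m h1 h2 =>
    (ShortComplex.exact_iff_epi_kernel_lift (T.sc' k l m)).1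
      ((exactAt_iff' T k l m (by simp; omega) (by simp; omega)).1 (hac l))
  let S : ℤ → ShortComplex B := fun k =>
    ShortComplex.mk (kernel.ι (T.d k (k + 1))) (p k (k + 1) (k + 1 + 1) rfl rfl)
      (by rw [← cancel_mono (kernel.ι (T.d (k + 1) (k + 1 + 1)))]; simp [p])
  have hS : ∀ k, (S k).ShortExact := fun k =>
    { exact := ShortComplex.exact_of_f_is_kernel _ (KernelFork.IsLimit.ofι' _ _ fun {W} g hg =>
        ⟨kernel.lift _ g (by
          have h := congrArg (· ≫ kernel.ι (T.d (k + 1) (k + 1 + 1))) hg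
          simpa [S, p] using h), kernel.lift_ι _ _ _⟩)
      mono_f := inferInstanceAs (Mono (kernel.ι _))
      epi_g := hp k (k + 1) (k + 1 + 1) rfl rfl }
  have hZ : ∀ (m : ℕ) (k : ℤ), a < k + m → ∀ n : ℕ, Subsingleton (Ext.{w''} (Z k) M (n + 1)) := by
    intro m
    induction m with
    | zero =>
      intro k hk n
      have h0 : IsZero (Z k) := IsZero.of_mono (kernel.ι (T.d k (k + 1)))
        (T.isZero_of_isStrictlyLE a k (by omega))
      refine subsingleton_of_forall_eq 0 fun x => ?_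
      rw [← Ext.mk₀_id_comp x, h0.eq_of_src (𝟙 (Z k)) 0, Ext.mk₀_zero, Ext.zero_comp]
    | succ m ih =>
      intro k hk n
      haveI := ih (k + 1) (by omega) (n + 1)
      refine subsingleton_of_forall_eq 0 fun x => ?_
      obtain ⟨y, rfl⟩ := Ext.contravariant_sequence_exact₁ (hS k) M x (n₁ := n + 2) (by omega)
        (Subsingleton.elim (α := Ext.{w''} (Z (k + 1)) M (n + 2)) _ _)
      haveI := hM k n
      rw [Subsingleton.elim y 0, Ext.comp_zero]
  have hZ' : ∀ k (n : ℕ), Subsingleton (Ext.{w''} (Z k) M (n + 1)) := fun k n =>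
    hZ (a + 1 - k).toNat k (by omega) n
  have h1 : (S j).f ≫ u = 0 := by
    haveI := hp (j - 1) j (j + 1) (by omega) rfl
    rw [← cancel_epi (p (j - 1) j (j + 1) (by omega) rfl), comp_zero]
    simpa [S, p] using hu
  obtain ⟨u', hu'⟩ := CokernelCofork.IsColimit.desc' ((hS j).gIsCokernel) u h1
  haveI := hZ' (j + 1 + 1) 0
  obtain ⟨y, hy⟩ := Ext.contravariant_sequence_exact₁ (hS (j + 1)) M (Ext.mk₀ u') (n₁ := 1) (add_zero 1)
    (Subsingleton.elim (α := Ext.{w''} (Z (j + 1 + 1)) M 1) _ _)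
  obtain ⟨v, rfl⟩ := (Ext.mk₀_bijective _ _).2 y
  rw [Ext.mk₀_comp_mk₀] at hy
  refine ⟨v, ?_⟩
  rw [← hu', ← (Ext.mk₀_bijective _ _).1 hy]
  simp [S, p]

variable {F} [EnoughInjectives A] [F.Additive] {G : B ⥤ A} [G.Additive] (adj : G ⊣ F)

include adj in
/-- The left adjoint preserves acyclicity of bounded above complexes of left acyclic objects. -/
lemma acyclic_map {T : CochainComplex B ℤ} (hac : T.Acyclic) (a : ℤ) [T.IsStrictlyLE a]
    (hT : ∀ j, LAcyclic F (T.X j)) : ((G.mapHomologicalComplex (ComplexShape.up ℤ)).obj T).Acyclic := fun j => by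
  suffices key : ∀ (I : A), Injective I → ∀ f : G.obj (T.X j) ⟶ I, G.map (T.d (j - 1) j) ≫ f = 0 →
      kernel.ι (G.map (T.d j (j + 1))) ≫ f = 0 by
    rw [exactAt_iff' _ (j - 1) j (j + 1) (by simp) (by simp),
      ShortComplex.exact_iff_kernel_ι_comp_cokernel_π_zero, ← cancel_mono (Injective.ι _), zero_comp,
      Category.assoc]
    exact key _ (Injective.injective_under _) _ (cokernel.condition_assoc _ _ |>.trans zero_comp)
  intro I hI f h0
  have hu : T.d (j - 1) j ≫ adj.homEquiv _ _ f = 0 := by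
    rw [← adj.homEquiv_naturality_left]
    rw [h0, Adjunction.homEquiv_unit, Functor.map_zero, comp_zero]
  obtain ⟨v, hv⟩ := exists_desc_of_exact hac a (F.obj I) (fun k n => hT k I hI n) j _ hu
  have hf : f = G.map (T.d j (j + 1)) ≫ (adj.homEquiv _ _).symm v :=
    (adj.homEquiv _ _).injective (by rw [adj.homEquiv_naturality_left, Equiv.apply_symm_apply, hv])
  exact (congrArg (kernel.ι _ ≫ ·) hf).trans ((Category.assoc _ _ _).symm.trans
    ((congrArg (· ≫ (adj.homEquiv _ _).symm v) (kernel.condition _)).trans zero_comp))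

variable (hcov : ∀ X : B, ∃ (Y : B) (π : Y ⟶ X), LAcyclic F Y ∧ Epi π)

include adj in
lemma quot_hom_eq_zero {T : CochainComplex B ℤ} (hac : T.Acyclic) (a : ℤ) [T.IsStrictlyLE a]
    (hT : ∀ j, LAcyclic F (T.X j)) (I : CochainComplex A ℤ) [I.IsKInjective]
    (f : (HomotopyCategory.quotient B (ComplexShape.up ℤ)).obj T ⟶
      (HomotopyCategory.quotient B (ComplexShape.up ℤ)).obj ((F.mapHomologicalComplex _).obj I)) : f = 0 := by
  let e := (mapHomotopyCategoryAdj adj).homEquiv ((HomotopyCategory.quotient B _).obj T)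
    ((HomotopyCategory.quotient A _).obj I)
  have h0 : ∀ g : (HomotopyCategory.quotient A _).obj ((G.mapHomologicalComplex (ComplexShape.up ℤ)).obj T) ⟶
      (HomotopyCategory.quotient A (ComplexShape.up ℤ)).obj I, g = 0 := fun g => by
    obtain ⟨g, rfl⟩ := (HomotopyCategory.quotient A _).map_surjective g
    exact (HomotopyCategory.eq_of_homotopy g 0
      (IsKInjective.homotopyZero g (acyclic_map adj hac a hT))).trans ((HomotopyCategory.quotient A _).map_zero _ _)
  haveI : Subsingleton ((G.mapHomotopyCategory (ComplexShape.up ℤ)).obj ((HomotopyCategory.quotient B _).obj T) ⟶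
      (HomotopyCategory.quotient A _).obj I) := subsingleton_of_forall_eq _ h0
  exact e.symm.injective (Subsingleton.elim _ _)

include adj in
/-- Maps from such complexes into the cone of `F I ⟶ J` are null homotopic. -/
lemma quot_hom_cone_eq_zero {T : CochainComplex B ℤ} (hac : T.Acyclic) (a : ℤ) [T.IsStrictlyLE a]
    (hT : ∀ j, LAcyclic F (T.X j)) (I : CochainComplex A ℤ) [I.IsKInjective] {J : CochainComplex B ℤ}
    [J.IsKInjective] (s : (F.mapHomologicalComplex _).obj I ⟶ J)
    (f : (HomotopyCategory.quotient B (ComplexShape.up ℤ)).obj T ⟶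
      (HomotopyCategory.quotient B (ComplexShape.up ℤ)).obj (mappingCone s)) : f = 0 := by
  have hd := HomotopyCategory.mappingCone_triangleh_distinguished s
  let μ : (HomotopyCategory.quotient B (ComplexShape.up ℤ)).obj (mappingCone s) ⟶
      ((HomotopyCategory.quotient B (ComplexShape.up ℤ)).obj ((F.mapHomologicalComplex _).obj I))⟦(1 : ℤ)⟧ :=
    (mappingCone.triangleh s).mor₃
  have h1 : f ≫ μ = 0 := by
    let e := ((F.mapHomotopyCategory (ComplexShape.up ℤ)).commShiftIso (1 : ℤ)).app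
      ((HomotopyCategory.quotient A _).obj I)
    let e' := (F.mapHomotopyCategory (ComplexShape.up ℤ)).mapIso
      (((HomotopyCategory.quotient A (ComplexShape.up ℤ)).commShiftIso (1 : ℤ)).app I)
    haveI : (I⟦(1 : ℤ)⟧).IsKInjective := inferInstance
    have h := quot_hom_eq_zero adj hac a hT (I⟦(1 : ℤ)⟧) (f ≫ μ ≫ e.inv ≫ e'.inv)
    exact (cancel_mono (e.inv ≫ e'.inv)).1
      (((Category.assoc _ _ _).trans h).trans zero_comp.symm)
  obtain ⟨g, hg⟩ := Triangle.coyoneda_exact₃ _ hd f h1
  obtain ⟨g', rfl⟩ := (HomotopyCategory.quotient B _).map_surjective (X := T) (Y := J) g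
  have : (HomotopyCategory.quotient B (ComplexShape.up ℤ)).map g' = 0 :=
    (HomotopyCategory.eq_of_homotopy g' 0 (IsKInjective.homotopyZero g' hac)).trans
      ((HomotopyCategory.quotient B _).map_zero _ _)
  rw [hg]
  exact (congrArg (· ≫ (mappingCone.triangleh s).mor₂) this).trans zero_comp

include adj hcov in
/-- Cycles with values in the cone of `F I ⟶ J` on left acyclic objects are boundaries. -/
lemma exists_primitive [HasDerivedCategory.{w'} B] (I : CochainComplex A ℤ) [I.IsKInjective]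
    {J : CochainComplex B ℤ} [J.IsKInjective] (s : (F.mapHomologicalComplex _).obj I ⟶ J) [QuasiIso s]
    {X : B} (hX : LAcyclic F X) (i : ℤ) (g : X ⟶ (mappingCone s).X i) (hg : g ≫ (mappingCone s).d i (i + 1) = 0) :
    ∃ b : X ⟶ (mappingCone s).X (i - 1), b ≫ (mappingCone s).d (i - 1) i = g := by
  let X₀ := (single B (ComplexShape.up ℤ) i).obj X
  let γ : X₀ ⟶ mappingCone s := mkHomFromSingle g (fun j hj => by obtain rfl : i + 1 = j := hj; exact hg)
  let q := HomotopyCategory.quotient B (ComplexShape.up ℤ)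
  have hC : (mappingCone s).Acyclic := KFlat.acyclic_mappingCone_of_quasiIso s
  obtain ⟨ZK, t, δ, hT⟩ := distinguished_cocone_triangle₁ (q.map γ)
  obtain ⟨Z, rfl⟩ : ∃ Z, q.obj Z = ZK := ⟨ZK.as, rfl⟩
  obtain ⟨t₀, ht₀⟩ := q.map_surjective (X := Z) (Y := X₀) t
  haveI : QuasiIso t₀ := by
    have h := ((HomotopyCategory.subcategoryAcyclic B).trW_iff_of_distinguished _ hT).2
      ((HomotopyCategory.quotient_obj_mem_subcategoryAcyclic_iff_acyclic _).2 hC)
    rw [← HomotopyCategory.quasiIso_eq_trW_subcategoryAcyclic] at h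
    change HomotopyCategory.quasiIso B (ComplexShape.up ℤ) t at h
    rw [← ht₀] at h
    exact (mem_quasiIso_iff _).1 ((HomotopyCategory.quotient_map_mem_quasiIso_iff t₀).1 h)
  obtain ⟨Z', r, hZ1, hZ2, hZ3⟩ := TriH.RightRes.exists_left_resolution_of_isLE (P := LAcyclic F)
    ⟨_, isZero_zero B, lAcyclic_of_isZero F (isZero_zero B)⟩ hcov Z i (fun n hn =>
      (exactAt_iff_isZero_homology _ _).1 ((quasiIsoAt_iff_exactAt' t₀ n
        (HomologicalComplex.exactAt_single_obj _ _ _ _ (by omega))).1 inferInstance))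
  haveI := hZ1
  haveI := hZ3
  have htg : q.map (r ≫ t₀) ≫ q.map γ = 0 := by
    rw [Functor.map_comp, Category.assoc, ht₀]
    exact (congrArg (q.map r ≫ ·) (comp_distTriang_mor_zero₁₂ _ hT)).trans comp_zero
  have hd := HomotopyCategory.mappingCone_triangleh_distinguished (r ≫ t₀)
  obtain ⟨k, hk⟩ := Triangle.yoneda_exact₂ _ hd (q.map γ) htg
  haveI : (mappingCone (r ≫ t₀)).IsStrictlyLE i := ((mappingCone (r ≫ t₀)).isStrictlyLE_iff i).2 fun n hn => by
    refine (IsZero.of_iso ?_ (homotopyCofiber.XIsoBiprod (r ≫ t₀) n (n + 1) rfl))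
    exact biprod_isZero_iff _ _ |>.2 ⟨Z'.isZero_of_isStrictlyLE i (n + 1) (by omega),
      HomologicalComplex.isZero_single_obj_X _ _ _ _ (by omega)⟩
  have hk0 : k = 0 := quot_hom_cone_eq_zero adj (T := mappingCone (r ≫ t₀))
    (KFlat.acyclic_mappingCone_of_quasiIso _) i (fun n => by
      have h2 : LAcyclic F (X₀.X n) := by
        by_cases hn : n = i
        · subst hn
          intro J hJ m
          haveI := hX J hJ m
          refine subsingleton_of_forall_eq 0 fun x => ?_
          let e := singleObjXSelf (ComplexShape.up ℤ) n X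
          have h0 : (Ext.mk₀ e.inv).comp x (zero_add _) = 0 := Subsingleton.elim _ _
          have h := congrArg (fun y => (Ext.mk₀ e.hom).comp y (zero_add (m + 1))) h0
          rw [Ext.comp_zero, ← Ext.comp_assoc (Ext.mk₀ e.hom) (Ext.mk₀ e.inv) x (zero_add 0) (zero_add _)
            (by omega), Ext.mk₀_comp_mk₀, e.hom_inv_id] at h
          exact (Ext.mk₀_id_comp x).symm.trans h
        · exact lAcyclic_of_isZero F (HomologicalComplex.isZero_single_obj_X _ _ _ _ hn)
      have h3 := lAcyclic_biprod F (hZ2 (n + 1)) h2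
      intro J hJ m
      haveI := h3 J hJ m
      let e := homotopyCofiber.XIsoBiprod (r ≫ t₀) n (n + 1) rfl
      refine subsingleton_of_forall_eq 0 fun x => ?_
      have h0 : (Ext.mk₀ e.inv).comp x (zero_add _) = 0 := Subsingleton.elim _ _
      have h := congrArg (fun y => (Ext.mk₀ e.hom).comp y (zero_add (m + 1))) h0
      rw [Ext.comp_zero, ← Ext.comp_assoc (Ext.mk₀ e.hom) (Ext.mk₀ e.inv) x (zero_add 0) (zero_add _)
        (by omega), Ext.mk₀_comp_mk₀, e.hom_inv_id] at h
      exact (Ext.mk₀_id_comp x).symm.trans h) I s k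
  have hγ : q.map γ = q.map 0 :=
    (hk.trans ((congrArg (_ ≫ ·) hk0).trans comp_zero)).trans (q.map_zero _ _).symm
  let H := HomotopyCategory.homotopyOfEq _ _ hγ
  refine ⟨(singleObjXSelf (ComplexShape.up ℤ) i X).inv ≫ H.hom i (i - 1), ?_⟩
  have hc := H.comm i
  rw [dNext_eq H.hom (show (ComplexShape.up ℤ).Rel i (i + 1) from rfl),
    prevD_eq H.hom (show (ComplexShape.up ℤ).Rel (i - 1) i by simp)] at hc
  have := congrArg ((singleObjXSelf (ComplexShape.up ℤ) i X).inv ≫ ·) hc
  simpa [γ, X₀] using this.symm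

variable [HasDerivedCategory.{w} A] [HasDerivedCategory.{w'} B]
  [(F.mapHomotopyCategory (ComplexShape.up ℤ) ⋙ DerivedCategory.Qh).HasRightDerivedFunctor
    (HomotopyCategory.quasiIso A (ComplexShape.up ℤ))]

/-- A product of K-injective complexes is a product in the derived category. -/
noncomputable def isLimitFanQ {A : Type u} [Category.{v} A] [Abelian A] [HasDerivedCategory.{w} A]
    {T : Type t} (I : T → CochainComplex A ℤ) [HasProduct I] (hI : ∀ t, (I t).IsKInjective) :
    IsLimit (Fan.mk (DerivedCategory.Q.obj (∏ᶜ I)) fun t => DerivedCategory.Q.map (Pi.π I t)) := by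
  haveI := TriH.isKInjective_pi I hI
  haveI := hI
  have hlift : ∀ (W : DerivedCategory A) (g : ∀ t, W ⟶ DerivedCategory.Q.obj (I t)),
      ∃! l : W ⟶ DerivedCategory.Q.obj (∏ᶜ I),
        ∀ t, l ≫ DerivedCategory.Q.map (Pi.π I t) = g t := by
    intro W g
    obtain ⟨X, ⟨e⟩⟩ : ∃ X, Nonempty (DerivedCategory.Q.obj X ≅ W) :=
      ⟨_, ⟨DerivedCategory.Q.objObjPreimageIso W⟩⟩
    choose a ha using fun t => TriH.Q_map_surjective_of_isKInjective X (I t) (e.hom ≫ g t)
    refine ⟨e.inv ≫ DerivedCategory.Q.map (Pi.lift a), fun t => ?_, fun l hl => ?_⟩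
    · rw [Category.assoc, ← Functor.map_comp, Pi.lift_π, ha, Iso.inv_hom_id_assoc]
    · obtain ⟨b, hb⟩ := TriH.Q_map_surjective_of_isKInjective X (∏ᶜ I) (e.hom ≫ l)
      rw [Iso.eq_inv_comp, ← hb, ← sub_eq_zero, ← Functor.map_sub,
        TriH.Q_map_eq_zero_iff_of_isKInjective, TriH.nullHomotopic_iff_exists_extension]
      have : ∀ t, Nonempty (Homotopy ((b - Pi.lift a) ≫ Pi.π I t) 0) := fun t => by
        rw [← TriH.Q_map_eq_zero_iff_of_isKInjective]
        simp [hb, hl t, ha t]
      choose ψ hψ using fun t => (TriH.nullHomotopic_iff_exists_extension _).1 (this t)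
      exact ⟨Pi.lift ψ, Pi.hom_ext _ _ fun t => by simp [hψ]⟩
  exact mkFanLimit _ (fun s => (hlift s.pt (fun t => s.proj t)).choose)
    (fun s t => (hlift s.pt (fun t => s.proj t)).choose_spec.1 t)
    (fun s m hm => (hlift s.pt (fun t => s.proj t)).choose_spec.2 m hm)

omit [HasExt.{w''} B] in
/-- A map of degreewise products whose factors have fillable cycles in their cones is a quasi-isomorphism. -/
lemma quasiIso_of_fans {T : Type t} {P R : CochainComplex B ℤ} (Q J : T → CochainComplex B ℤ)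
    (π : ∀ t, P ⟶ Q t) (ρ : ∀ t, R ⟶ J t) (hP : ∀ p, IsLimit (Fan.mk (P.X p) fun t => (π t).f p))
    (hR : ∀ p, IsLimit (Fan.mk (R.X p) fun t => (ρ t).f p)) (σ : P ⟶ R) (s : ∀ t, Q t ⟶ J t)
    (hσ : ∀ t, σ ≫ ρ t = π t ≫ s t) (good : B → Prop)
    (hcov : ∀ W : B, ∃ (X : B) (p : X ⟶ W), good X ∧ Epi p)
    (hfill : ∀ (t : T) (X : B), good X → ∀ (i : ℤ) (g : X ⟶ (mappingCone (s t)).X i),
      g ≫ (mappingCone (s t)).d i (i + 1) = 0 →
      ∃ b : X ⟶ (mappingCone (s t)).X (i - 1), b ≫ (mappingCone (s t)).d (i - 1) i = g) :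
    QuasiIso σ := by
  have hσ' : ∀ t p, σ.f p ≫ (ρ t).f p = (π t).f p ≫ (s t).f p := fun t p =>
    congrArg (fun z : P ⟶ J t => z.f p) (hσ t)
  refine ModGroth.quasiIso_of_acyclic_mappingCone σ fun i => ?_
  rw [exactAt_iff' _ (i - 1) i (i + 1) (by simp) (by simp), ShortComplex.exact_iff_exact_up_to_refinements]
  intro W g₀ hg₀
  suffices h : ∀ g : W ⟶ (mappingCone σ).X i, g ≫ (mappingCone σ).d i (i + 1) = 0 →
      ∃ (X : B) (p : X ⟶ W) (_ : Epi p) (x : X ⟶ (mappingCone σ).X (i - 1)),
        p ≫ g = x ≫ (mappingCone σ).d (i - 1) i from h g₀ hg₀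
  intro g hg
  obtain ⟨X, p, hX, hp⟩ := hcov W
  refine ⟨X, p, hp, ?_⟩
  let u := p ≫ g ≫ (mappingCone.fst σ).1.v i (i + 1) rfl
  let v := p ≫ g ≫ (mappingCone.snd σ).v i i (add_zero i)
  have hu : u ≫ P.d (i + 1) (i + 1 + 1) = 0 := by
    have := congrArg (fun z => p ≫ z ≫ (mappingCone.fst σ).1.v (i + 1) (i + 1 + 1) rfl) hg
    simpa [u, mappingCone.d_fst_v σ i (i + 1) (i + 1 + 1) rfl rfl] using this
  have hv : u ≫ σ.f (i + 1) + v ≫ R.d i (i + 1) = 0 := by
    have := congrArg (fun z => p ≫ z ≫ (mappingCone.snd σ).v (i + 1) (i + 1) (add_zero _)) hg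
    simpa [u, v, mappingCone.d_snd_v σ i (i + 1) rfl] using this
  have key : ∀ t, ∃ (b : X ⟶ (Q t).X i) (c : X ⟶ (J t).X (i - 1)),
      -(b ≫ (Q t).d i (i + 1)) = u ≫ (π t).f (i + 1) ∧
        b ≫ (s t).f i + c ≫ (J t).d (i - 1) i = v ≫ (ρ t).f i := by
    intro t
    let gt : X ⟶ (mappingCone (s t)).X i :=
      (u ≫ (π t).f (i + 1)) ≫ (mappingCone.inl (s t)).v (i + 1) i (by omega) +
        (v ≫ (ρ t).f i) ≫ (mappingCone.inr (s t)).f i
    have hgt : gt ≫ (mappingCone (s t)).d i (i + 1) = 0 := by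
      rw [mappingCone.ext_to_iff (s t) (i + 1) (i + 1 + 1) rfl]
      constructor
      · have h := congrArg (· ≫ (π t).f (i + 1 + 1)) hu
        simp only [Category.assoc, zero_comp, ← (π t).comm] at h
        simpa [gt, mappingCone.d_fst_v (s t) i (i + 1) (i + 1 + 1) rfl rfl] using h
      · have h := congrArg (· ≫ (ρ t).f (i + 1)) hv
        simp only [Preadditive.add_comp, Category.assoc, hσ', zero_comp, ← (ρ t).comm] at h
        simpa [gt, mappingCone.d_snd_v (s t) i (i + 1) rfl] using h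
    obtain ⟨a, ha⟩ := hfill t X hX i gt hgt
    refine ⟨a ≫ (mappingCone.fst (s t)).1.v (i - 1) i (by omega),
      a ≫ (mappingCone.snd (s t)).v (i - 1) (i - 1) (add_zero _), ?_, ?_⟩
    · have h := congrArg (· ≫ (mappingCone.fst (s t)).1.v i (i + 1) rfl) ha
      simpa [gt, mappingCone.d_fst_v (s t) (i - 1) i (i + 1) (by omega) rfl] using h
    · have h := congrArg (· ≫ (mappingCone.snd (s t)).v i i (add_zero i)) ha
      simpa [gt, mappingCone.d_snd_v (s t) (i - 1) i (by omega)] using h
  choose b c hb hc using key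
  let B' : X ⟶ P.X i := Fan.IsLimit.lift (hP i) b
  let C' : X ⟶ R.X (i - 1) := Fan.IsLimit.lift (hR (i - 1)) c
  have hB : ∀ t, B' ≫ (π t).f i = b t := fun t => Fan.IsLimit.fac (hP i) b t
  have hC : ∀ t, C' ≫ (ρ t).f (i - 1) = c t := fun t => Fan.IsLimit.fac (hR (i - 1)) c t
  refine ⟨B' ≫ (mappingCone.inl σ).v i (i - 1) (by omega) + C' ≫ (mappingCone.inr σ).f (i - 1), ?_⟩
  rw [mappingCone.ext_to_iff σ i (i + 1) rfl]
  constructor
  · refine Fan.IsLimit.hom_ext (hP (i + 1)) _ _ fun t => ?_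
    change (_ ≫ (mappingCone.fst σ).1.v i (i + 1) rfl) ≫ (π t).f (i + 1) =
      (_ ≫ (mappingCone.fst σ).1.v i (i + 1) rfl) ≫ (π t).f (i + 1)
    simp [mappingCone.d_fst_v σ (i - 1) i (i + 1) (by omega) rfl, ← (π t).comm, reassoc_of% (hB t),
      -HomologicalComplex.Hom.comm, -HomologicalComplex.Hom.comm_assoc]
    simpa [u] using (hb t).symm
  · refine Fan.IsLimit.hom_ext (hR i) _ _ fun t => ?_
    change (_ ≫ (mappingCone.snd σ).v i i (add_zero i)) ≫ (ρ t).f i =
      (_ ≫ (mappingCone.snd σ).v i i (add_zero i)) ≫ (ρ t).f i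
    simp [mappingCone.d_snd_v σ (i - 1) i (by omega), hσ', ← (ρ t).comm, reassoc_of% (hB t),
      reassoc_of% (hC t), -HomologicalComplex.Hom.comm, -HomologicalComplex.Hom.comm_assoc]
    simpa [v] using (hc t).symm

include adj hcov in
/-- The comparison of products of resolutions is a quasi-isomorphism. -/
lemma quasiIso_piLift {T : Type t} [HasLimitsOfShape (Discrete T) A] [HasLimitsOfShape (Discrete T) B]
    (I : T → CochainComplex A ℤ) (hI : ∀ t, (I t).IsKInjective) (J : T → CochainComplex B ℤ)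
    (hJ : ∀ t, (J t).IsKInjective) (s : ∀ t, (F.mapHomologicalComplex _).obj (I t) ⟶ J t)
    (hs : ∀ t, QuasiIso (s t)) :
    QuasiIso (Pi.lift fun t => (F.mapHomologicalComplex (ComplexShape.up ℤ)).map (Pi.π I t) ≫ s t) := by
  haveI : PreservesLimitsOfShape (Discrete T) F := adj.rightAdjoint_preservesLimits.preservesLimitsOfShape
  exact quasiIso_of_fans (fun t => (F.mapHomologicalComplex (ComplexShape.up ℤ)).obj (I t)) J
    (fun t => (F.mapHomologicalComplex (ComplexShape.up ℤ)).map (Pi.π I t)) (fun t => Pi.π J t)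
    (fun p => isLimitFanMkObjOfIsLimit (HomologicalComplex.eval A (ComplexShape.up ℤ) p ⋙ F) I _ (productIsProduct I))
    (fun p => isLimitFanMkObjOfIsLimit (HomologicalComplex.eval B (ComplexShape.up ℤ) p) J _ (productIsProduct J))
    _ s (fun t => Pi.lift_π _ t) (LAcyclic F) hcov
    (fun t X hX i g hg => haveI := hI t; haveI := hJ t; haveI := hs t
      exists_primitive adj hcov (I t) (s t) hX i g hg)

include adj hcov in
/-- `RF` preserves products. -/
theorem preservesLimit {T : Type t} [HasLimitsOfShape (Discrete T) A] [HasLimitsOfShape (Discrete T) B]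
    (hKA : ∀ K : CochainComplex A ℤ, ∃ (I : CochainComplex A ℤ) (f : K ⟶ I), I.IsKInjective ∧ QuasiIso f)
    (hKB : ∀ K : CochainComplex B ℤ, ∃ (I : CochainComplex B ℤ) (f : K ⟶ I), I.IsKInjective ∧ QuasiIso f)
    (E : T → DerivedCategory A) : PreservesLimit (Discrete.functor E) (RFun F) := by
  let W := HomotopyCategory.quasiIso A (ComplexShape.up ℤ)
  let P := F.mapHomotopyCategory (ComplexShape.up ℤ) ⋙ DerivedCategory.Qh
  haveI : P.HasPointwiseRightDerivedFunctor W :=
    TriH.hasPointwiseRightDerivedFunctor_of_bijective (L := DerivedCategory.Qh)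
      (TriH.exists_kInjective_homotopy hKA) P
  let β := P.totalRightDerivedUnit DerivedCategory.Qh W
  let ν : F.mapHomologicalComplex (ComplexShape.up ℤ) ⋙ DerivedCategory.Q ⟶ DerivedCategory.Q ⋙ RFun F :=
    { app := fun K => (DerivedCategory.quotientCompQhIso B).inv.app _ ≫
        β.app ((HomotopyCategory.quotient A _).obj K) ≫
        (RFun F).map ((DerivedCategory.quotientCompQhIso A).hom.app K)
      naturality := fun K L f => by
        have h1 := (DerivedCategory.quotientCompQhIso B).inv.naturality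
          ((F.mapHomologicalComplex (ComplexShape.up ℤ)).map f)
        have h2 := β.naturality ((HomotopyCategory.quotient A _).map f)
        have h3 := (DerivedCategory.quotientCompQhIso A).hom.naturality f
        refine (Category.assoc _ _ _).symm.trans (((congrArg (· ≫ _) h1).trans (Category.assoc _ _ _)).trans ?_)
        refine (congrArg (_ ≫ ·) ((Category.assoc _ _ _).symm.trans ((congrArg (· ≫ _) h2).trans
          (Category.assoc _ _ _)))).trans ?_
        refine (congrArg (fun z => _ ≫ β.app _ ≫ z) (((RFun F).map_comp _ _).symm.trans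
          ((congrArg (RFun F).map h3).trans ((RFun F).map_comp _ _)))).trans ?_
        simp only [Category.assoc, Functor.comp_map]
        first
          | rfl
          | exact congrArg (_ ≫ ·) (Category.assoc _ _ _).symm }
  have hν : ∀ K : CochainComplex A ℤ, K.IsKInjective → IsIso (ν.app K) := fun K hK => by
    haveI : IsIso (β.app ((HomotopyCategory.quotient A _).obj K)) :=
      TriH.isIso_unit_of_bijective (W := W) P (RFun F) β _ (TriH.Qh_bijective_of_isKInjective K)
    change IsIso (_ ≫ _ ≫ _)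
    exact IsIso.comp_isIso' inferInstance (IsIso.comp_isIso' this inferInstance)
  choose I φ hI hφ using fun t => hKA (DerivedCategory.Q.objPreimage (E t))
  choose J s hJ hs using fun t => hKB ((F.mapHomologicalComplex (ComplexShape.up ℤ)).obj (I t))
  let eE : Discrete.functor (fun t => DerivedCategory.Q.obj (I t)) ≅ Discrete.functor E :=
    Discrete.natIso fun ⟨t⟩ => (haveI := hφ t; (asIso (DerivedCategory.Q.map (φ t))).symm ≪≫
      DerivedCategory.Q.objObjPreimageIso (E t))
  suffices PreservesLimit (Discrete.functor fun t => DerivedCategory.Q.obj (I t)) (RFun F) from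
    preservesLimit_of_iso_diagram _ eE
  refine preservesLimit_of_preserves_limit_cone (isLimitFanQ I hI) ((isLimitMapConeFanMkEquiv _ _ _).symm ?_)
  haveI := TriH.isKInjective_pi I hI
  haveI := hν (∏ᶜ I) inferInstance
  haveI := fun t => hν (I t) (hI t)
  haveI := hs
  haveI := quasiIso_piLift adj hcov I hI J hJ s hs
  set σ := Pi.lift fun t => (F.mapHomologicalComplex (ComplexShape.up ℤ)).map (Pi.π I t) ≫ s t with hσ
  let k : ∀ t, DerivedCategory.Q.obj (J t) ≅ (RFun F).obj (DerivedCategory.Q.obj (I t)) := fun t =>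
    (asIso (DerivedCategory.Q.map (s t))).symm ≪≫ asIso (ν.app (I t))
  have hlim : IsLimit (Fan.mk (DerivedCategory.Q.obj (∏ᶜ J))
      fun t => DerivedCategory.Q.map (Pi.π J t) ≫ (k t).hom) := by
    refine mkFanLimit _ (fun c => Fan.IsLimit.lift (isLimitFanQ J hJ) fun t => c.proj t ≫ (k t).inv) ?_ ?_
    · intro c t
      have h := Fan.IsLimit.fac (isLimitFanQ J hJ) (fun t => c.proj t ≫ (k t).inv) t
      simp only [fan_mk_proj] at h ⊢
      rw [reassoc_of% h]
      simp
    · intro c m hm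
      refine Fan.IsLimit.hom_ext (isLimitFanQ J hJ) _ _ fun t => ?_
      rw [Fan.IsLimit.fac]
      simp only [fan_mk_proj] at hm ⊢
      rw [← hm t]
      simp
  refine IsLimit.ofIsoLimit hlim (Fan.ext ((asIso (DerivedCategory.Q.map σ)).symm ≪≫ asIso (ν.app (∏ᶜ I))) fun t => ?_)
  simp only [fan_mk_proj, Iso.trans_hom, Iso.symm_hom, asIso_inv, asIso_hom, Category.assoc]
  rw [IsIso.eq_inv_comp, ← Category.assoc, ← Functor.map_comp, hσ, Pi.lift_π, Functor.map_comp,
    Category.assoc]
  simp only [k, Iso.trans_hom, Iso.symm_hom, asIso_inv, asIso_hom, IsIso.hom_inv_id_assoc]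
  exact ν.naturality (Pi.π I t)

end Groth.Agent.DerAdj.Products
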