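import Groth.Agent.DerAdj.Devissage
import Groth.Agent.TriH.EndNilp
import Groth.Agent.RlimLib.SitePushMem

/-!
# Equivalences of unbounded derived categories with cohomology in weak Serre classes
-/

set_option autoImplicit false
set_option linter.style.haveILetI false

open CategoryTheory CategoryTheory.Limits CategoryTheory.Pretriangulated DerivedCategory

namespace Groth.Agent.DerAdj.Unbounded

universe w w' v v' u u'

section Window

variable {A : Type u} [Category.{v} A] [Abelian A] [HasDerivedCategory.{w} A]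

/-- The cohomology of a cone vanishes where the map is an isomorphism. -/
lemma isZero_cone {T : Triangle (DerivedCategory A)} (hT : T ∈ distinguishedTriangles) (q : ℤ)
    (h₀ : IsIso ((homologyFunctor A q).map T.mor₁)) (h₁ : IsIso ((homologyFunctor A (q + 1)).map T.mor₁)) :
    IsZero ((homologyFunctor A q).obj T.obj₃) := by
  refine (HomologySequence.exact₃ _ hT q (q + 1) rfl).isZero_of_both_zeros ?_ ?_
  · exact (HomologySequence.epi_homologyMap_mor₁_iff _ hT q).1 inferInstance
  · exact (HomologySequence.mono_homologyMap_mor₁_iff _ hT q (q + 1) rfl).1 inferInstance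

/-- A map is an isomorphism on cohomology where the cone has none. -/
lemma isIso_of_isZero_cone {T : Triangle (DerivedCategory A)} (hT : T ∈ distinguishedTriangles) (p q : ℤ)
    (hpq : p + 1 = q) (hp : IsZero ((homologyFunctor A p).obj T.obj₃)) (hq : IsZero ((homologyFunctor A q).obj T.obj₃)) :
    IsIso ((homologyFunctor A q).map T.mor₁) := by
  haveI : Mono ((homologyFunctor A q).map T.mor₁) :=
    (HomologySequence.mono_homologyMap_mor₁_iff _ hT p q hpq).2 (hp.eq_of_src _ _)
  haveI : Epi ((homologyFunctor A q).map T.mor₁) :=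
    (HomologySequence.epi_homologyMap_mor₁_iff _ hT q).2 (hq.eq_of_tgt _ _)
  exact isIso_of_mono_of_epi _

end Window

variable {A₀ : Type u} [Category.{v} A₀] [Abelian A₀] [HasDerivedCategory.{w} A₀] {B₀ : Type u'} [Category.{v'} B₀]
  [Abelian B₀] [HasDerivedCategory.{w'} B₀] (G : B₀ ⥤ A₀) [G.Additive] [PreservesFiniteLimits G]
  [PreservesFiniteColimits G]

/-- An exact functor maps a map which is an isomorphism on cohomology in a window to one. -/
lemma isIso_homology_map_of_window {X Y : DerivedCategory B₀} (φ : X ⟶ Y) (j : ℤ)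
    (h : ∀ q, j - 1 ≤ q → q ≤ j + 1 → IsIso ((homologyFunctor B₀ q).map φ)) :
    IsIso ((homologyFunctor A₀ j).map (G.mapDerivedCategory.map φ)) := by
  obtain ⟨Z, p, δ, hT⟩ := distinguished_cocone_triangle φ
  have hz : ∀ q, j - 1 ≤ q → q ≤ j →
      IsZero ((homologyFunctor A₀ q).obj (G.mapDerivedCategory.obj Z)) := fun q h1 h2 =>
    (G.map_isZero (isZero_cone hT q (h q h1 (by omega)) (h (q + 1) (by omega) (by omega)))).of_iso
      (homology_mapDerivedCategory G Z q).some
  exact isIso_of_isZero_cone (G.mapDerivedCategory.map_distinguished _ hT) (j - 1) j (by omega)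
    (hz _ le_rfl (by omega)) (hz j (by omega) le_rfl)

variable {R : DerivedCategory A₀ ⥤ DerivedCategory B₀} (adj : G.mapDerivedCategory ⊣ R)
  (A : ObjectProperty A₀) [WSerre.IsWeakSerre A] (A' : ObjectProperty B₀) [WSerre.IsWeakSerre A']

omit [HasDerivedCategory.{w} A₀] [HasDerivedCategory.{w'} B₀] [PreservesFiniteColimits G]
  [WSerre.IsWeakSerre A] in
/-- Full faithfulness detects zero objects. -/
lemma isZero_of_map (h2b : ∀ F' G' : B₀, A' F' → A' G' → Function.Bijective (fun φ : F' ⟶ G' => G.map φ))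
    {Z : B₀} (hZ : A' Z) (h : IsZero (G.obj Z)) : IsZero Z :=
  (IsZero.iff_id_eq_zero Z).2 ((h2b Z Z hZ hZ).1 (h.eq_of_src _ _))

omit [HasDerivedCategory.{w} A₀] in
/-- Cohomology of a cone in a weak Serre class. -/
lemma cone_mem {T : Triangle (DerivedCategory B₀)} (hT : T ∈ distinguishedTriangles)
    (h₁ : WSerre.cohIn A' T.obj₁) (h₂ : WSerre.cohIn A' T.obj₂) (q : ℤ) :
    A' ((homologyFunctor B₀ q).obj T.obj₃) :=
  RlimLib.prop_of_five A' (HomologySequence.exact₂ _ hT q) (HomologySequence.exact₃ _ hT q (q + 1) rfl)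
    (HomologySequence.exact₁ _ hT q (q + 1) rfl) (h₁ q) (h₂ q) (h₁ (q + 1)) (h₂ (q + 1))

include adj in
/-- Equivalence of unbounded derived categories with cohomology in weak Serre classes. -/
theorem equivalence (h2a : ∀ F' : B₀, A' F' → A (G.obj F'))
    (h2b : ∀ F' G' : B₀, A' F' → A' G' → Function.Bijective (fun φ : F' ⟶ G' => G.map φ))
    (hplus : ∀ (X : DerivedCategory A₀) (n : ℤ) [X.IsGE n], WSerre.cohIn A X →
      WSerre.cohIn A' (R.obj X) ∧ IsIso (adj.counit.app X))
    (hR : ∀ X : DerivedCategory A₀, WSerre.cohIn A X → ∀ (n : ℕ) (j : ℤ), -(n : ℤ) ≤ j →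
      IsIso ((homologyFunctor B₀ j).map (R.map ((TStructure.t.truncGEπ (-(n : ℤ))).app X)))) :
    (∀ Y : DerivedCategory B₀, WSerre.cohIn A' Y →
      WSerre.cohIn A (G.mapDerivedCategory.obj Y) ∧ IsIso (adj.unit.app Y)) ∧
    (∀ X : DerivedCategory A₀, WSerre.cohIn A X →
      WSerre.cohIn A' (R.obj X) ∧ IsIso (adj.counit.app X)) := by
  have htr : ∀ (X : DerivedCategory A₀) (n : ℕ), WSerre.cohIn A X →
      WSerre.cohIn A ((TStructure.t.truncGE (-(n : ℤ))).obj X) := fun X n hX i => by
    by_cases hi : i < -(n : ℤ)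
    · exact A.prop_of_isZero (TriH.EndNilp.isZero_homology_truncGE X (-(n : ℤ)) i hi)
    · haveI := TriH.EndNilp.isIso_homology_π X (-(n : ℤ) - 1) (-(n : ℤ)) i (by omega) (by omega)
      exact A.prop_of_iso (asIso ((homologyFunctor A₀ i).map ((TStructure.t.truncGEπ (-(n : ℤ))).app X))) (hX i)
  have hX : ∀ X : DerivedCategory A₀, WSerre.cohIn A X →
      WSerre.cohIn A' (R.obj X) ∧ IsIso (adj.counit.app X) := by
    intro X hX
    have hτ : ∀ n : ℕ, WSerre.cohIn A' (R.obj ((TStructure.t.truncGE (-(n : ℤ))).obj X)) ∧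
        IsIso (adj.counit.app ((TStructure.t.truncGE (-(n : ℤ))).obj X)) := fun n => by
      haveI : ((TStructure.t.truncGE (-(n : ℤ))).obj X).IsGE (-(n : ℤ)) :=
        inferInstanceAs (TStructure.t.IsGE ((TStructure.t.truncGE (-(n : ℤ))).obj X) (-(n : ℤ)))
      exact hplus _ (-(n : ℤ)) (htr X n hX)
    refine ⟨fun i => ?_, ?_⟩
    · haveI := hR X hX (-i).toNat i (by omega)
      exact A'.prop_of_iso (asIso ((homologyFunctor B₀ i).map
        (R.map ((TStructure.t.truncGEπ (-((-i).toNat : ℤ))).app X)))).symm ((hτ _).1 i)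
    · rw [DerivedCategory.isIso_iff]
      intro j
      obtain ⟨n, hn⟩ : ∃ n : ℕ, -(n : ℤ) ≤ j - 1 := ⟨(1 - j).toNat, by omega⟩
      let π := (TStructure.t.truncGEπ (-(n : ℤ))).app X
      haveI := (hτ n).2
      haveI : IsIso ((homologyFunctor A₀ j).map π) :=
        TriH.EndNilp.isIso_homology_π X (-(n : ℤ) - 1) (-(n : ℤ)) j (by omega) (by omega)
      haveI := isIso_homology_map_of_window G (R.map π) j fun q h1 _ => hR X hX n q (by omega)
      have h : adj.counit.app X ≫ π = G.mapDerivedCategory.map (R.map π) ≫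
          adj.counit.app ((TStructure.t.truncGE (-(n : ℤ))).obj X) :=
        (adj.counit.naturality π).symm
      have h' := congrArg (homologyFunctor A₀ j).map h
      simp only [Functor.map_comp] at h'
      haveI : IsIso ((homologyFunctor A₀ j).map (adj.counit.app X) ≫ (homologyFunctor A₀ j).map π) := by
        rw [h']; infer_instance
      exact IsIso.of_isIso_comp_right _ ((homologyFunctor A₀ j).map π)
  refine ⟨fun Y hY => ?_, hX⟩
  have hGY : WSerre.cohIn A (G.mapDerivedCategory.obj Y) := fun i =>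
    A.prop_of_iso (homology_mapDerivedCategory G Y i).some.symm (h2a _ (hY i))
  obtain ⟨hA', hε⟩ := hX _ hGY
  refine ⟨hGY, ?_⟩
  obtain ⟨Z, p, δ, hT⟩ := distinguished_cocone_triangle (adj.unit.app Y)
  haveI : IsIso (G.mapDerivedCategory.map (adj.unit.app Y)) :=
    haveI := hε
    IsIso.of_isIso_fac_right (hh := IsIso.id _) (adj.left_triangle_components Y)
  have hz : ∀ q, IsZero ((homologyFunctor B₀ q).obj Z) := fun q =>
    isZero_of_map G A' h2b (cone_mem A' hT hY hA' q)
      ((isZero_cone (G.mapDerivedCategory.map_distinguished _ hT) q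
        (inferInstanceAs (IsIso ((homologyFunctor A₀ q).map (G.mapDerivedCategory.map (adj.unit.app Y)))))
        (inferInstanceAs (IsIso ((homologyFunctor A₀ (q + 1)).map (G.mapDerivedCategory.map (adj.unit.app Y)))))).of_iso
          (homology_mapDerivedCategory G Z q).some.symm)
  rw [DerivedCategory.isIso_iff]
  exact fun j => isIso_of_isZero_cone hT (j - 1) j (by omega) (hz _) (hz j)

end Groth.Agent.DerAdj.Unbounded
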